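import Mathlib
import Cfsg.Agent.S0752

/-!
An alternating bilinear form has even rank.
-/

set_option autoImplicit false

namespace Cfsg.Agent.H174

open Module

variable {F : Type*} [Field F] {V : Type*} [AddCommGroup V] [Module F V]

/-- an alternating bilinear form has even rank -/
theorem even_finrank_range_of_isAlt [FiniteDimensional F V] (β : LinearMap.BilinForm F V)
    (h : β.IsAlt) : Even (finrank F (LinearMap.range β)) := by
  classical
  obtain ⟨m, k, b, h1, h2, h3, h4⟩ := Cfsg.Agent.S0752.result β h
  have hker : LinearMap.ker β = Submodule.span F (Set.range (fun j : Fin k => b (Sum.inr j))) := by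
    apply le_antisymm
    · intro x hx
      rw [LinearMap.mem_ker] at hx
      have hc : ∀ i : Fin m ⊕ Fin m, b.repr x (Sum.inl i) = 0 := by
        have key : ∀ y, β x y = ∑ p, b.repr x p * β (b p) y := by
          intro y
          conv_lhs => rw [← b.sum_repr x]
          rw [map_sum, LinearMap.sum_apply]
          simp only [map_smul, LinearMap.smul_apply, smul_eq_mul]
        have h5 : ∀ i j : Fin m, β (b (Sum.inl (Sum.inr i))) (b (Sum.inl (Sum.inl j))) =
            if i = j then -1 else 0 := by
          intro i j
          rw [← h.neg_eq, h1]
          by_cases hij : i = j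
          · simp [hij]
          · rw [if_neg (Ne.symm hij), if_neg hij, neg_zero]
        rintro (i | i)
        · have := key (b (Sum.inl (Sum.inr i)))
          rw [hx] at this
          simp [Fintype.sum_sum_type, h1, h3, h4] at this
          exact this.symm ▸ rfl
        · have := key (b (Sum.inl (Sum.inl i)))
          rw [hx] at this
          simp [Fintype.sum_sum_type, h2, h5, h4] at this
          exact this
      rw [← b.sum_repr x]
      refine Submodule.sum_mem _ fun p _ => ?_
      rcases p with (i | j)
      · rw [hc, zero_smul]; exact Submodule.zero_mem _
      · exact Submodule.smul_mem _ _ (Submodule.subset_span ⟨j, rfl⟩)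
    · rw [Submodule.span_le]
      rintro _ ⟨j, rfl⟩
      simp only [SetLike.mem_coe, LinearMap.mem_ker]
      ext v
      exact h4 j v
  have hk : finrank F (LinearMap.ker β) = k := by
    rw [hker, finrank_span_eq_card]
    · simp
    · exact b.linearIndependent.comp _ Sum.inr_injective
  have hV : finrank F V = (m + m) + k := by
    rw [finrank_eq_card_basis b]
    simp
  have := LinearMap.finrank_range_add_finrank_ker β
  rw [hk, hV] at this
  exact ⟨m, by omega⟩

end Cfsg.Agent.H174
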