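import Mathlib
import Cfsg.Prelude.Def_JordanBlocks

/-!
Jordan bases of nilpotent maps, abstractly.

`IsJB N b` : the basis `b` indexed by `Σ k, Fin (d k)` satisfies `N (b ⟨k,i⟩) = b ⟨k,i+1⟩` (or `0` at the end of
the block).
-/

set_option autoImplicit false

namespace Cfsg.Agent.H174

open Module

variable {F : Type*} [Field F] {V : Type*} [AddCommGroup V] [Module F V]

/-- `b` is a Jordan basis of the nilpotent map `N`, with block sizes `d`. -/
def IsJB {ι : Type*} {d : ι → ℕ} (N : V →ₗ[F] V) (b : Basis ((k : ι) × Fin (d k)) F V) : Prop :=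
  ∀ (k : ι) (i : Fin (d k)), N (b ⟨k, i⟩) = if h : (i : ℕ) + 1 < d k then b ⟨k, ⟨i + 1, h⟩⟩ else 0

theorem IsJB.pow_apply {ι : Type*} {d : ι → ℕ} {N : V →ₗ[F] V}
    {b : Basis ((k : ι) × Fin (d k)) F V} (hb : IsJB N b) (s : ℕ) (k : ι) (i : Fin (d k)) :
    (N ^ s) (b ⟨k, i⟩) = if h : (i : ℕ) + s < d k then b ⟨k, ⟨i + s, h⟩⟩ else 0 := by
  induction s with
  | zero =>
    rw [pow_zero, dif_pos (by simp)]
    rfl
  | succ s ih =>
    rw [pow_succ', Module.End.mul_apply, ih]
    by_cases h : (i : ℕ) + s < d k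
    · rw [dif_pos h, hb]
      rfl
    · rw [dif_neg h, dif_neg (by omega), map_zero]

/-- the range of `N ^ s` is spanned by the basis vectors of depth at least `s`. -/
theorem IsJB.range_pow {ι : Type*} {d : ι → ℕ} {N : V →ₗ[F] V}
    {b : Basis ((k : ι) × Fin (d k)) F V} (hb : IsJB N b) (s : ℕ) :
    LinearMap.range (N ^ s) = Submodule.span F (b '' {p | s ≤ (p.2 : ℕ)}) := by
  apply le_antisymm
  · rw [LinearMap.range_eq_map, ← b.span_eq, Submodule.map_span_le]
    rintro _ ⟨⟨k, i⟩, rfl⟩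
    rw [hb.pow_apply]
    split_ifs with h
    · refine Submodule.subset_span ⟨⟨k, ⟨i + s, h⟩⟩, ?_, rfl⟩
      simp
    · exact Submodule.zero_mem _
  · rw [Submodule.span_le]
    rintro _ ⟨⟨k, i⟩, hi, rfl⟩
    simp only [Set.mem_ofPred_eq] at hi
    refine ⟨b ⟨k, ⟨i - s, by omega⟩⟩, ?_⟩
    rw [hb.pow_apply, dif_pos (by simp; omega)]
    congr 3
    simp
    omega

theorem card_filter_le (n s : ℕ) : (Finset.univ.filter fun i : Fin n => s ≤ (i : ℕ)).card = n - s := by
  have h : ((Finset.univ.filter fun i : Fin n => s ≤ (i : ℕ)).map Fin.valEmbedding) = Finset.Ico s n := by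
    ext a
    simp only [Finset.mem_map, Finset.mem_filter, Finset.mem_univ, true_and, Fin.valEmbedding_apply,
      Finset.mem_Ico]
    constructor
    · rintro ⟨i, hi, rfl⟩
      exact ⟨hi, i.2⟩
    · rintro ⟨h1, h2⟩
      exact ⟨⟨a, h2⟩, h1, rfl⟩
  rw [← Finset.card_map Fin.valEmbedding, h, Nat.card_Ico]

theorem IsJB.finrank_range_pow {ι : Type*} [Fintype ι] {d : ι → ℕ} {N : V →ₗ[F] V}
    {b : Basis ((k : ι) × Fin (d k)) F V} (hb : IsJB N b) (s : ℕ) :
    finrank F (LinearMap.range (N ^ s)) = ∑ k, (d k - s) := by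
  classical
  rw [hb.range_pow]
  have hli : LinearIndepOn F id (b '' {p : (k : ι) × Fin (d k) | s ≤ (p.2 : ℕ)}) := by
    have := b.linearIndependent.linearIndepOn_id
    exact this.mono (Set.image_subset_range _ _)
  rw [finrank_span_set_eq_card (R := F) hli, Set.toFinset_card, Set.card_image_of_injective _ b.injective]
  rw [Fintype.card_of_subtype (Finset.univ.sigma fun k => Finset.univ.filter fun i : Fin (d k) => s ≤ (i : ℕ))
    (by rintro ⟨k, i⟩; simp)]
  rw [Finset.card_sigma]
  refine Finset.sum_congr rfl fun k _ => ?_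
  exact card_filter_le _ _

/-- the multiplicity of blocks of size `j` in terms of ranks. -/
theorem IsJB.card_eq {ι : Type*} [Fintype ι] {d : ι → ℕ} {N : V →ₗ[F] V}
    {b : Basis ((k : ι) × Fin (d k)) F V} (hb : IsJB N b) (j : ℕ) :
    finrank F (LinearMap.range (N ^ j)) + finrank F (LinearMap.range (N ^ (j + 2))) =
      2 * finrank F (LinearMap.range (N ^ (j + 1))) +
        (Finset.univ.filter (fun k : ι => d k = j + 1)).card := by
  classical
  rw [hb.finrank_range_pow, hb.finrank_range_pow, hb.finrank_range_pow, Finset.card_filter,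
    Finset.mul_sum, ← Finset.sum_add_distrib, ← Finset.sum_add_distrib]
  refine Finset.sum_congr rfl fun k _ => ?_
  split_ifs with h <;> omega

end Cfsg.Agent.H174
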