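import Mathlib
import Cfsg.Agent.H174.Jordan
import Cfsg.Agent.H174.AltRank

/-!
Isometries `u` of a bilinear form `B`, `N = u - 1`: the forms `B x (N ^ s y)` on `ker N ^ (s+1)`.
-/

set_option autoImplicit false

namespace Cfsg.Agent.H174

open Module

variable {F : Type*} [Field F] {V : Type*} [AddCommGroup V] [Module F V]

/-- `u - 1` -/
def nil (u : V ≃ₗ[F] V) : V →ₗ[F] V := u.toLinearMap - LinearMap.id

theorem nil_apply (u : V ≃ₗ[F] V) (x : V) : nil u x = u x - x := rfl

theorem nil_comm_symm (u : V ≃ₗ[F] V) (x : V) : nil u (u.symm x) = u.symm (nil u x) := by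
  simp [nil_apply]

theorem nil_pow_comm_symm (u : V ≃ₗ[F] V) (s : ℕ) (x : V) :
    (nil u ^ s) (u.symm x) = u.symm ((nil u ^ s) x) := by
  induction s generalizing x with
  | zero => rfl
  | succ s ih => rw [pow_succ, Module.End.mul_apply, Module.End.mul_apply, nil_comm_symm, ih]

theorem nil_step {B : LinearMap.BilinForm F V} {u : V ≃ₗ[F] V} (hB : ∀ x y, B (u x) (u y) = B x y)
    (x y : V) : B x (nil u y) = - B (nil u (u.symm x)) y := by
  have h := hB (u.symm x) y
  rw [u.apply_symm_apply] at h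
  simp only [nil_apply, map_sub, LinearMap.sub_apply, u.apply_symm_apply]
  rw [h]
  abel

theorem form_eq_zero {B : LinearMap.BilinForm F V} {u : V ≃ₗ[F] V} (hB : ∀ x y, B (u x) (u y) = B x y)
    (b : ℕ) : ∀ (a : ℕ) (x y : V), (nil u ^ (a + b)) x = 0 → B ((nil u ^ a) x) ((nil u ^ b) y) = 0 := by
  induction b with
  | zero =>
    intro a x y h
    rw [add_zero] at h
    rw [h, map_zero, LinearMap.zero_apply]
  | succ b ih =>
    intro a x y h
    rw [pow_succ', Module.End.mul_apply, nil_step hB, ← nil_pow_comm_symm, ← Module.End.mul_apply,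
      ← pow_succ', ih, neg_zero]
    rw [nil_pow_comm_symm, show a + 1 + b = a + (b + 1) by ring, h, map_zero]

theorem form_shift {B : LinearMap.BilinForm F V} {u : V ≃ₗ[F] V} (hB : ∀ x y, B (u x) (u y) = B x y)
    (c : ℕ) : ∀ (a b : ℕ) (x y : V), (nil u ^ (a + b + c + 1)) x = 0 →
      B ((nil u ^ a) x) ((nil u ^ (b + c)) y) = (-1) ^ c * B ((nil u ^ (a + c)) x) ((nil u ^ b) y) := by
  induction c with
  | zero =>
    intro a b x y h
    simp
  | succ c ih =>
    intro a b x y h
    have h1 : u.symm x = x - nil u (u.symm x) := by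
      simp [nil_apply]
    have h2 : B ((nil u ^ a) x) ((nil u ^ (b + (c + 1))) y) =
        - B ((nil u ^ (a + 1)) x) ((nil u ^ (b + c)) y) := by
      rw [show b + (c + 1) = (b + c) + 1 by ring, pow_succ', Module.End.mul_apply, nil_step hB,
        ← nil_pow_comm_symm, ← Module.End.mul_apply, ← pow_succ']
      congr 1
      conv_lhs => rw [h1]
      rw [map_sub, map_sub, LinearMap.sub_apply, ← Module.End.mul_apply, ← pow_succ,
        form_eq_zero hB (b + c) (a + 1 + 1), sub_zero]
      rw [nil_pow_comm_symm, show a + 1 + 1 + (b + c) = a + b + (c + 1) + 1 by ring, h, map_zero]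
    rw [h2, ih (a + 1) b x y (by rw [show a + 1 + b + c + 1 = a + b + (c + 1) + 1 by ring]; exact h),
      show a + 1 + c = a + (c + 1) by ring]
    ring

/-- symplectic: the form is alternating for even `s` -/
theorem form_self_symp {B : LinearMap.BilinForm F V} {u : V ≃ₗ[F] V}
    (hB : ∀ x y, B (u x) (u y) = B x y) (hA : B.IsAlt) {s : ℕ} (hs : Even s) (x : V)
    (hx : (nil u ^ (s + 1)) x = 0) : B x ((nil u ^ s) x) = 0 := by
  obtain ⟨k, rfl⟩ := hs
  have h := form_shift hB k 0 k x x (by simpa using hx)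
  simp only [pow_zero, Module.End.one_apply, zero_add] at h
  rw [h, hA, mul_zero]

/-- orthogonal, odd characteristic: the form is alternating for odd `s` -/
theorem form_self_orth {B : LinearMap.BilinForm F V} {u : V ≃ₗ[F] V}
    (hB : ∀ x y, B (u x) (u y) = B x y) (hS : ∀ x y, B x y = B y x) (h2 : (2 : F) ≠ 0) {s : ℕ}
    (hs : Odd s) (x : V) (hx : (nil u ^ (s + 1)) x = 0) : B x ((nil u ^ s) x) = 0 := by
  have h := form_shift hB s 0 0 x x (by simpa using hx)
  simp only [pow_zero, Module.End.one_apply, zero_add, hs.neg_one_pow] at h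
  rw [hS ((nil u ^ s) x) x] at h
  have h3 : 2 * B x ((nil u ^ s) x) = 0 := by
    linear_combination h
  exact (mul_eq_zero.1 h3).resolve_left h2

/-- the right perp of `ker N ^ j` is `range N ^ j`. -/
theorem orthogonal_ker [FiniteDimensional F V] {B : LinearMap.BilinForm F V} {u : V ≃ₗ[F] V}
    (hB : ∀ x y, B (u x) (u y) = B x y) (hnd : B.Nondegenerate) (j : ℕ) :
    B.orthogonal (LinearMap.ker (nil u ^ j)) = LinearMap.range (nil u ^ j) := by
  symm
  apply Submodule.eq_of_le_of_finrank_eq
  · rintro _ ⟨y, rfl⟩ x hx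
    have := form_eq_zero hB j 0 x y (by simpa using hx)
    simpa using this
  · rw [LinearMap.BilinForm.finrank_orthogonal hnd]
    have := LinearMap.finrank_range_add_finrank_ker (nil u ^ j)
    omega

theorem finrank_map_add {V₂ : Type*} [AddCommGroup V₂] [Module F V₂] [FiniteDimensional F V]
    (T : V →ₗ[F] V₂) (W : Submodule F V) :
    finrank F (W.map T) + finrank F (W ⊓ LinearMap.ker T : Submodule F V) = finrank F W := by
  have h := LinearMap.finrank_range_add_finrank_ker (T.domRestrict W)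
  rw [LinearMap.range_domRestrict] at h
  rw [← h]
  congr 1
  have : (W ⊓ LinearMap.ker T : Submodule F V) = (LinearMap.ker (T.domRestrict W)).map W.subtype := by
    ext x
    simp [LinearMap.mem_ker, and_comm]
  rw [this, Submodule.finrank_map_subtype_eq]

theorem finrank_range_pow_add {N : V →ₗ[F] V} [FiniteDimensional F V] (i : ℕ) :
    finrank F (LinearMap.range (N ^ (i + 1))) +
      finrank F (LinearMap.range (N ^ i) ⊓ LinearMap.ker N : Submodule F V) =
      finrank F (LinearMap.range (N ^ i)) := by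
  have h := finrank_map_add N (LinearMap.range (N ^ i))
  rwa [← LinearMap.range_comp, ← Module.End.mul_eq_comp, ← pow_succ'] at h

theorem map_pow_ker (N : V →ₗ[F] V) (i : ℕ) :
    (LinearMap.ker (N ^ (i + 1))).map (N ^ i) = LinearMap.range (N ^ i) ⊓ LinearMap.ker N := by
  ext x
  simp only [Submodule.mem_map, LinearMap.mem_ker, Submodule.mem_inf, LinearMap.mem_range]
  constructor
  · rintro ⟨y, hy, rfl⟩
    refine ⟨⟨y, rfl⟩, ?_⟩
    rwa [← Module.End.mul_apply, ← pow_succ']
  · rintro ⟨⟨y, rfl⟩, hy⟩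
    refine ⟨y, ?_, rfl⟩
    rwa [pow_succ', Module.End.mul_apply]

/-- If `B x (N ^ s x) = 0` on `ker N ^ (s+1)` then the number `r_s - 2 r_(s+1) + r_(s+2)` is even. -/
theorem even_mult [FiniteDimensional F V] {B : LinearMap.BilinForm F V} {u : V ≃ₗ[F] V}
    (hB : ∀ x y, B (u x) (u y) = B x y) (hnd : B.Nondegenerate) (s : ℕ)
    (hs : ∀ x, (nil u ^ (s + 1)) x = 0 → B x ((nil u ^ s) x) = 0) :
    ∃ m, finrank F (LinearMap.range (nil u ^ s)) + finrank F (LinearMap.range (nil u ^ (s + 2))) =
      2 * finrank F (LinearMap.range (nil u ^ (s + 1))) + 2 * m := by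
  set N := nil u with hN
  set K := LinearMap.ker (N ^ (s + 1)) with hK
  let T : V →ₗ[F] (K →ₗ[F] F) := (LinearMap.lcomp F F K.subtype).comp B.flip
  have hT : ∀ z (x : K), T z x = B x z := fun z x => rfl
  let β : LinearMap.BilinForm F K := (T.comp (N ^ s)).comp K.subtype
  have hβ : ∀ x y : K, β x y = B (y : V) ((N ^ s) x) := fun x y => rfl
  have hβA : β.IsAlt := by
    intro x
    rw [hβ]
    exact hs x x.2
  obtain ⟨m, hm⟩ := even_finrank_range_of_isAlt β hβA
  have hkerT : LinearMap.ker T = LinearMap.range (N ^ (s + 1)) := by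
    rw [← orthogonal_ker hB hnd]
    ext z
    rw [LinearMap.mem_ker, LinearMap.BilinForm.mem_orthogonal_iff]
    constructor
    · intro h n hn
      have := LinearMap.congr_fun h ⟨n, hn⟩
      simpa [hT] using this
    · intro h
      ext ⟨n, hn⟩
      rw [hT]
      exact h n hn
  have hrange : LinearMap.range β = (LinearMap.range (N ^ s) ⊓ LinearMap.ker N).map T := by
    rw [← map_pow_ker, ← hK]
    change LinearMap.range ((T.comp (N ^ s)).comp K.subtype) = _
    rw [LinearMap.range_comp, Submodule.range_subtype, Submodule.map_comp]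
  have h1 := finrank_map_add T (LinearMap.range (N ^ s) ⊓ LinearMap.ker N)
  rw [← hrange, hkerT] at h1
  have h2 : (LinearMap.range (N ^ s) ⊓ LinearMap.ker N ⊓ LinearMap.range (N ^ (s + 1)) : Submodule F V) =
      LinearMap.range (N ^ (s + 1)) ⊓ LinearMap.ker N := by
    apply le_antisymm
    · exact fun x hx => ⟨hx.2, hx.1.2⟩
    · intro x hx
      refine ⟨⟨?_, hx.2⟩, hx.1⟩
      obtain ⟨y, rfl⟩ := hx.1
      exact ⟨N y, by rw [← Module.End.mul_apply, ← pow_succ]⟩
  rw [h2] at h1
  have h3 := finrank_range_pow_add (N := N) s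
  have h4 := finrank_range_pow_add (N := N) (s + 1)
  rw [show s + 1 + 1 = s + 2 by ring] at h4
  exact ⟨m, by omega⟩

/-- the multiplicity of the block size `s + 1` is even -/
theorem even_card [FiniteDimensional F V] {B : LinearMap.BilinForm F V} {u : V ≃ₗ[F] V}
    (hB : ∀ x y, B (u x) (u y) = B x y) (hnd : B.Nondegenerate) (s : ℕ)
    (hs : ∀ x, (nil u ^ (s + 1)) x = 0 → B x ((nil u ^ s) x) = 0)
    {ι : Type*} [Fintype ι] {d : ι → ℕ} {b : Basis ((k : ι) × Fin (d k)) F V} (hb : IsJB (nil u) b) :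
    Even (Finset.univ.filter (fun k : ι => d k = s + 1)).card := by
  obtain ⟨m, hm⟩ := even_mult hB hnd s hs
  have h := hb.card_eq s
  exact ⟨m, by omega⟩

end Cfsg.Agent.H174
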