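import Mathlib

/-!
`k(G) ≤ [G:H] k(H)` for a subgroup `H` of a finite group `G`.
-/

set_option autoImplicit false

namespace Cfsg.Agent.H174.ClassIndex

open Subgroup

variable {G : Type*} [Group G] [Finite G]

theorem card_le_index_mul (C H : Subgroup G) :
    Nat.card C ≤ H.index * Nat.card (C ⊓ H : Subgroup G) := by
  have h1 : H.relIndex C ≤ H.index := by
    rw [← relIndex_top_right H]
    exact relIndex_le_of_le_right le_top (by rw [relIndex_top_right]; exact H.index_ne_zero_of_finite)
  have h2 := relIndex_mul_relIndex (⊥ : Subgroup G) (C ⊓ H) C bot_le inf_le_left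
  rw [relIndex_bot_left, relIndex_bot_left] at h2
  rw [inf_comm, inf_relIndex_right] at h2
  rw [inf_comm C H, ← h2, mul_comm]
  exact Nat.mul_le_mul_right _ h1

theorem card_pairs {A B : Type*} [Finite A] [Finite B] (R : A → B → Prop) :
    Nat.card {p : A × B // R p.1 p.2} = ∑ᶠ a, Nat.card {b // R a b} := by
  classical
  have := Fintype.ofFinite A
  have := Fintype.ofFinite B
  rw [finsum_eq_sum_of_fintype, ← Nat.card_sigma]
  exact Nat.card_congr ⟨fun p => ⟨p.1.1, p.1.2, p.2⟩, fun p => ⟨(p.1, p.2.1), p.2.2⟩,
    fun _ => rfl, fun _ => rfl⟩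

theorem card_conjClasses_le (H : Subgroup G) :
    Nat.card (ConjClasses G) ≤ H.index * Nat.card (ConjClasses H) := by
  classical
  have := Fintype.ofFinite G
  have hcG : ∀ g : G, Nat.card {k : G // Commute g k} = Nat.card (centralizer ({g} : Set G)) := by
    intro g
    refine Nat.card_congr (Equiv.subtypeEquivRight fun k => ?_)
    rw [mem_centralizer_singleton_iff]
    exact ⟨fun h => h.symm, fun h => Commute.symm h⟩
  have hcH : ∀ g : G, Nat.card {k : H // Commute g k} =
      Nat.card (centralizer ({g} : Set G) ⊓ H : Subgroup G) := by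
    intro g
    refine Nat.card_congr ⟨fun k => ⟨k.1.1, ?_, k.1.2⟩, fun k => ⟨⟨k.1, k.2.2⟩, ?_⟩,
      fun _ => rfl, fun _ => rfl⟩
    · exact mem_centralizer_singleton_iff.2 k.2.symm
    · exact Commute.symm (mem_centralizer_singleton_iff.1 k.2.1)
  -- number of commuting pairs in `G × G`, `G × H`, `H × H`
  have h1 : Nat.card {p : G × G // Commute p.1 p.2} ≤
      H.index * Nat.card {p : G × H // Commute p.1 (p.2 : G)} := by
    rw [card_pairs, card_pairs (fun (a : G) (b : H) => Commute a (b : G)), finsum_eq_sum_of_fintype,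
      finsum_eq_sum_of_fintype, Finset.mul_sum]
    refine Finset.sum_le_sum fun g _ => ?_
    rw [hcG, hcH]
    exact card_le_index_mul _ _
  have h2 : Nat.card {p : G × H // Commute p.1 (p.2 : G)} =
      Nat.card {p : H × G // Commute (p.1 : G) p.2} :=
    Nat.card_congr ⟨fun p => ⟨(p.1.2, p.1.1), p.2.symm⟩, fun p => ⟨(p.1.2, p.1.1), p.2.symm⟩,
      fun _ => rfl, fun _ => rfl⟩
  have h3 : Nat.card {p : H × G // Commute (p.1 : G) p.2} ≤
      H.index * Nat.card {p : H × H // Commute p.1 p.2} := by
    rw [card_pairs (fun (a : H) (b : G) => Commute (a : G) b), card_pairs, finsum_eq_sum_of_fintype,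
      finsum_eq_sum_of_fintype, Finset.mul_sum]
    refine Finset.sum_le_sum fun g _ => ?_
    have : Nat.card {b : H // Commute g b} = Nat.card {k : H // Commute (g : G) k} :=
      Nat.card_congr (Equiv.subtypeEquivRight fun k => by
        rw [Commute, Commute, SemiconjBy, SemiconjBy, Subtype.ext_iff]; rfl)
    rw [hcG, this, hcH]
    exact card_le_index_mul _ _
  rw [card_comm_eq_card_conjClasses_mul_card] at h1 h3
  have h4 : Nat.card G = Nat.card H * H.index := (H.card_mul_index).symm
  have h5 : Nat.card (ConjClasses G) * Nat.card G ≤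
      (H.index * Nat.card (ConjClasses H)) * Nat.card G := by
    calc Nat.card (ConjClasses G) * Nat.card G
        ≤ H.index * (H.index * (Nat.card (ConjClasses H) * Nat.card H)) :=
          h1.trans (Nat.mul_le_mul_left _ (h2 ▸ h3))
      _ = (H.index * Nat.card (ConjClasses H)) * Nat.card G := by rw [h4]; ring
  exact Nat.le_of_mul_le_mul_right h5 Nat.card_pos

end Cfsg.Agent.H174.ClassIndex
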