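import Cfsg.Agent.H174.CNEvenLower
import Cfsg.Agent.H174.ClassIndex
import Cfsg.Agent.S0838
import Cfsg.Agent.S0788
import Cfsg.Agent.LieClassical.OmegaReindex

/-!
Lower bound for the class numbers of `O(2n+1,q)` and `Ω(2n+1,q)`, `q` odd.
-/

set_option autoImplicit false

namespace Cfsg.Agent.H174.CN

open Polynomial Module Cfsg

universe u

theorem Rz.of_smul {F V : Type*} [Field F] [AddCommGroup V] [Module F V] [Module.Finite F V]
    {Q : V → F} {p : F[X]} {c : F} (hc : c ≠ 0) (h : Rz (fun v => c * Q v) p) : Rz Q p := by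
  obtain ⟨g, hg, hp⟩ := h
  exact ⟨g, fun v => mul_left_cancel₀ hc (hg v), hp⟩

theorem nondeg_comp {F V W : Type*} [Field F] [AddCommGroup V] [Module F V] [AddCommGroup W]
    [Module F W] (Q : QuadraticForm F W) (hQ : (QuadraticMap.polarBilin Q).Nondegenerate)
    (e : V ≃ₗ[F] W) : (QuadraticMap.polarBilin (Q.comp e.toLinearMap)).Nondegenerate := by
  apply nondeg_of
  intro v hv
  rw [← e.map_eq_zero_iff]
  apply hQ.1
  intro w
  have := hv (e.symm w)
  simpa [QuadraticMap.polar, QuadraticMap.comp_apply] using this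

/-- in odd dimension all nondegenerate forms are similar -/
theorem Rz.similar {F V : Type*} [Field F] [Fintype F] (h2 : (2 : F) ≠ 0) [AddCommGroup V] [Module F V]
    [Module.Finite F V] {ι : Type} [Fintype ι] {n : ℕ} (hV : finrank F V = 2 * n + 1)
    (hι : Fintype.card ι = 2 * n + 1) (Q : QuadraticForm F V)
    (hQ : (QuadraticMap.polarBilin Q).Nondegenerate) (T : QuadraticForm F (ι → F))
    (hT : (QuadraticMap.polarBilin T).Nondegenerate) {p : F[X]} (h : Rz Q p) : Rz T p := by
  classical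
  let e1 : (Fin (2 * n + 1) → F) ≃ₗ[F] V := (finBasisOfFinrankEq F V hV).equivFun.symm
  let e2 : (Fin (2 * n + 1) → F) ≃ₗ[F] (ι → F) :=
    LinearEquiv.funCongrLeft F F (Fintype.equivFinOfCardEq hι)
  obtain ⟨g, c, hc, hg⟩ := Cfsg.Agent.S0838.result h2 (n := 2 * n + 1) ⟨n, rfl⟩
    (T.comp e2.toLinearMap) (Q.comp e1.toLinearMap) (nondeg_comp T hT e2) (nondeg_comp Q hQ e1)
  have h3 : ∀ v : V, Q v = c * T (e2 (g.symm (e1.symm v))) := by
    intro v
    have h4 := hg (g.symm (e1.symm v))
    rw [g.apply_symm_apply] at h4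
    simpa [QuadraticMap.comp_apply] using h4
  exact (h.congr (Q' := fun w => c * T w) ((e1.symm.trans g.symm).trans e2) h3).of_smul hc

variable {F : Type u} [Field F]

theorem exists_factor_two {h : F[X]} (hh : h.Monic) (a : F) : ∃ (k : ℕ) (h' : F[X]),
    h = (X - C a) ^ k * h' ∧ h'.Monic ∧ h'.eval a ≠ 0 ∧ h.natDegree = k + h'.natDegree ∧
    ∀ b, h.eval b ≠ 0 → h'.eval b ≠ 0 := by
  obtain ⟨h', h1, h2⟩ := exists_eq_pow_rootMultiplicity_mul_and_not_dvd h hh.ne_zero a
  have h3 : h'.Monic := by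
    have : ((X - C a) ^ h.rootMultiplicity a * h').Monic := h1 ▸ hh
    exact ((monic_X_sub_C a).pow _).of_mul_monic_left this
  refine ⟨_, h', h1, h3, ?_, ?_, ?_⟩
  · intro h4
    exact h2 (dvd_iff_isRoot.2 h4)
  · conv_lhs => rw [h1]
    rw [((monic_X_sub_C a).pow _).natDegree_mul h3, natDegree_pow, natDegree_X_sub_C, mul_one]
  · intro b hb h4
    apply hb
    rw [h1, eval_mul, h4, mul_zero]

theorem plusQ_nondeg (m : ℕ) : (QuadraticMap.polarBilin (plusQ m F)).Nondegenerate := by
  have : QuadraticMap.polarBilin (plusQ m F) =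
      ClassicalGeometry.QuadPlusBasic.polarForm m F := by
    refine LinearMap.ext fun u => LinearMap.ext fun v => ?_
    exact polar_plusQ m F u v
  rw [this]
  exact ClassicalGeometry.QuadPlusBasic.polarForm_nondegenerate m F

theorem sq_nondeg (h2 : (2 : F) ≠ 0) :
    (QuadraticMap.polarBilin (QuadraticMap.sq : QuadraticForm F F)).Nondegenerate := by
  apply nondeg_of
  intro v hv
  have := hv 1
  simp [QuadraticMap.polar] at this
  have h3 : 2 * v = 0 := by linear_combination this
  exact (mul_eq_zero.1 h3).resolve_left h2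

theorem eval_one_ne (a : F) : (1 : F[X]).eval a ≠ 0 := by simp

/-- all polynomials `h² (X ∓ 2)` are realised in odd dimension -/
theorem rz_odd [Fintype F] (h2 : (2 : F) ≠ 0) {ι : Type} [Fintype ι] {n : ℕ}
    (hι : Fintype.card ι = 2 * n + 1) (T : QuadraticForm F (ι → F))
    (hT : (QuadraticMap.polarBilin T).Nondegenerate) {h : F[X]} (hh : h.Monic)
    (hn : h.natDegree = n) : Rz T (h ^ 2 * (X - C 2)) ∧ Rz T (h ^ 2 * (X + C 2)) := by
  obtain ⟨i, k, h1, h3, h4, h5, -⟩ := exists_factor_two hh 2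
  obtain ⟨j, f, h6, h7, h8, h9, h10⟩ := exists_factor_two h3 (-2)
  have h11 := h10 2 h4
  have := finite_adjoinRoot h7
  let Q := (((Qh h7).prod (plusQ i F)).prod (plusQ j F)).prod (QuadraticMap.sq : QuadraticForm F F)
  have hQ : (QuadraticMap.polarBilin Q).Nondegenerate :=
    prod_nondeg (prod_nondeg (prod_nondeg (nondeg_of _ fun _ hv => nondeg_Qh h7 h11 h8 hv)
      (plusQ_nondeg i)) (plusQ_nondeg j)) (sq_nondeg h2)
  have hfr : finrank F ((((AdjoinRoot f × AdjoinRoot f) × (Fin i ⊕ Fin i → F)) ×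
      (Fin j ⊕ Fin j → F)) × F) = 2 * n + 1 := by
    simp only [finrank_prod, finrank_adjoinRoot h7, finrank_fintype_fun_eq_card, Fintype.card_sum,
      Fintype.card_fin, finrank_self]
    omega
  have r1 := ((rz_Qh h7).prod (Rz.one (plusQ i F))).prod
    (Rz.neg (Q := plusQ j F) fun v => QuadraticMap.map_neg _ v)
  have r2 := r1.prod (Rz.one (QuadraticMap.sq : QuadraticForm F F))
  have r3 := r1.prod (Rz.neg (Q := (QuadraticMap.sq : QuadraticForm F F)) fun v => QuadraticMap.map_neg _ v)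
  simp only [finrank_fintype_fun_eq_card, Fintype.card_sum, Fintype.card_fin, finrank_self,
    pow_one] at r2 r3
  have hp : f ^ 2 * (X - C 2) ^ (i + i) * (X + C 2) ^ (j + j) = h ^ 2 := by
    rw [h1, h6, C_neg, sub_neg_eq_add]
    ring
  rw [hp] at r2 r3
  exact ⟨Rz.similar h2 hfr hι Q hQ T hT r2, Rz.similar h2 hfr hι Q hQ T hT r3⟩

theorem sq_mul_ne (h2 : (2 : F) ≠ 0) {p q : F[X]} (hp : p.Monic) (hq : q.Monic) :
    p ^ 2 * (X - C 2) ≠ q ^ 2 * (X + C 2) := by
  classical
  intro h
  have e : (X + C 2 : F[X]) = X - C (-2) := by simp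
  rw [e] at h
  have h1 := congrArg (fun P : F[X] => P.roots.count 2) h
  have hne : (-2 : F) ≠ 2 := by
    intro h3
    have h4 : (2 : F) * 2 = 0 := by linear_combination -h3
    rcases mul_eq_zero.1 h4 with h5 | h5 <;> exact h2 h5
  simp only [roots_mul (mul_ne_zero (pow_ne_zero 2 hp.ne_zero) (X_sub_C_ne_zero 2)),
    roots_mul (mul_ne_zero (pow_ne_zero 2 hq.ne_zero) (X_sub_C_ne_zero (-2))), roots_pow,
    roots_X_sub_C, Multiset.count_add, Multiset.count_nsmul, Multiset.count_singleton_self,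
    Multiset.count_singleton, if_neg (Ne.symm hne)] at h1
  omega

theorem lower_orth_odd_dim [Fintype F] (h2 : (2 : F) ≠ 0) {ι : Type} [Fintype ι] [DecidableEq ι]
    {n : ℕ} (hι : Fintype.card ι = 2 * n + 1) (T : QuadraticForm F (ι → F))
    (hT : (QuadraticMap.polarBilin T).Nondegenerate) :
    2 * Fintype.card F ^ n ≤ Nat.card (ConjClasses (isometryGroup F T)) := by
  classical
  let A : Finset F[X] := (Finset.univ : Finset (Fin n → F)).image fun v => pol v ^ 2 * (X - C 2)
  let B : Finset F[X] := (Finset.univ : Finset (Fin n → F)).image fun v => pol v ^ 2 * (X + C 2)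
  have hA : A.card = Fintype.card F ^ n := by
    rw [Finset.card_image_of_injective, Finset.card_univ, Fintype.card_fun, Fintype.card_fin]
    intro v w h
    exact pol_sq_injective n (mul_right_cancel₀ (X_sub_C_ne_zero (2 : F)) h)
  have hB : B.card = Fintype.card F ^ n := by
    rw [Finset.card_image_of_injective, Finset.card_univ, Fintype.card_fun, Fintype.card_fin]
    intro v w h
    have e : (X + C 2 : F[X]) ≠ 0 := (monic_X_add_C 2).ne_zero
    exact pol_sq_injective n (mul_right_cancel₀ e h)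
  have hd : Disjoint A B := by
    rw [Finset.disjoint_left]
    intro p h1 h3
    obtain ⟨v, -, rfl⟩ := Finset.mem_image.1 h1
    obtain ⟨w, -, hw⟩ := Finset.mem_image.1 h3
    exact sq_mul_ne h2 (pol_monic v) (pol_monic w) hw.symm
  have h1 := card_le_of_rz (T : (ι → F) → F) (A ∪ B) (by
    intro p hp
    rcases Finset.mem_union.1 hp with hp | hp
    · obtain ⟨v, -, rfl⟩ := Finset.mem_image.1 hp
      exact (rz_odd h2 hι T hT (pol_monic v) (natDegree_pol v)).1
    · obtain ⟨v, -, rfl⟩ := Finset.mem_image.1 hp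
      exact (rz_odd h2 hι T hT (pol_monic v) (natDegree_pol v)).2)
  rw [Finset.card_union_of_disjoint hd, hA, hB] at h1
  omega

/-- **E4** -/
theorem lower_omega {F : Type*} [Field F] [Fintype F] (hodd : Odd (Fintype.card F)) (n : ℕ)
    (hn : 2 ≤ n) :
    Fintype.card F ^ n ≤ 2 * Nat.card (ConjClasses ↥(Cfsg.Omega F (Cfsg.quadFormOdd n F))) := by
  classical
  have h2 : (2 : F) ≠ 0 := by
    intro h
    have h3 : ringChar F = 2 := by
      have h5 : ((2 : ℕ) : F) = 0 := by exact_mod_cast h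
      have h6 := ringChar.dvd h5
      rcases (Nat.dvd_prime Nat.prime_two).1 h6 with h7 | h7
      · exact absurd h7 CharP.ringChar_ne_one
      · exact h7
    have h4 := FiniteField.even_card_iff_char_two.1 h3
    obtain ⟨k, hk⟩ := hodd
    omega
  have hcard : Fintype.card (Unit ⊕ (Fin n ⊕ Fin n)) = 2 * n + 1 := by simp; omega
  have hT := LieClassical.OmegaReindex.quadOdd_nondegenerate (m := n) (F := F) h2
  have h1 := lower_orth_odd_dim h2 hcard (LieClassical.OmegaReindex.quadOdd n F) hT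
  have h3 := LieClassical.OmegaReindex.index_omega_of_fin hcard
    (fun Q' hQ' => Cfsg.Agent.S0788.result h2 (by omega) Q' hQ')
    (LieClassical.OmegaReindex.quadOdd n F) hT
  rw [LieClassical.OmegaReindex.coe_quadOdd] at h1 h3
  have h4 := ClassIndex.card_conjClasses_le (Cfsg.Omega F (Cfsg.quadFormOdd n F))
  rw [h3] at h4
  omega

end Cfsg.Agent.H174.CN
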