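import Mathlib

/-!
The algebra `R = F[s]/(h)` for a monic polynomial `h`, the functional `tau` (coefficient of
`s^(n-1)`), the quadratic form `Qh (x,y) = tau (x² + s x y + y²)` on `R × R` and its isometry
`gX (x,y) = (-y, x + s y)` with `gX + gX⁻¹ = s`.
-/

set_option autoImplicit false

namespace Cfsg.Agent.H174.CN

open Polynomial Module

/-- some isometry `g` of `(V,Q)` has `charpoly (g + g⁻¹) = p` -/
def Rz {F V : Type*} [Field F] [AddCommGroup V] [Module F V] [Module.Finite F V] (Q : V → F)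
    (p : F[X]) : Prop :=
  ∃ g : V ≃ₗ[F] V, (∀ v, Q (g v) = Q v) ∧
    ((g : V →ₗ[F] V) + (g.symm : V →ₗ[F] V)).charpoly = p

section Rz

variable {F V W : Type*} [Field F] [AddCommGroup V] [Module F V] [Module.Finite F V]
  [AddCommGroup W] [Module F W] [Module.Finite F W]

theorem Rz.congr {Q : V → F} {Q' : W → F} (e : V ≃ₗ[F] W) (he : ∀ v, Q v = Q' (e v)) {p : F[X]}
    (h : Rz Q p) : Rz Q' p := by
  obtain ⟨g, hg, hp⟩ := h
  refine ⟨e.symm.trans (g.trans e), fun v => ?_, ?_⟩
  · have h1 := hg (e.symm v)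
    rw [he, he, e.apply_symm_apply] at h1
    exact h1
  · have h1 : (((e.symm.trans (g.trans e) : W ≃ₗ[F] W) : W →ₗ[F] W) +
        ((e.symm.trans (g.trans e) : W ≃ₗ[F] W).symm : W →ₗ[F] W)) =
        e.conj ((g : V →ₗ[F] V) + (g.symm : V →ₗ[F] V)) := by
      ext v
      simp [LinearEquiv.conj_apply]
    rw [h1, LinearEquiv.charpoly_conj, hp]

theorem Rz.prod {Q : V → F} {Q' : W → F} {p p' : F[X]} (h : Rz Q p) (h' : Rz Q' p') :
    Rz (fun x : V × W => Q x.1 + Q' x.2) (p * p') := by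
  obtain ⟨g, hg, hp⟩ := h
  obtain ⟨g', hg', hp'⟩ := h'
  refine ⟨g.prodCongr g', fun v => ?_, ?_⟩
  · simp [hg, hg']
  · have h1 : (((g.prodCongr g' : (V × W) ≃ₗ[F] (V × W)) : (V × W) →ₗ[F] (V × W)) +
        ((g.prodCongr g' : (V × W) ≃ₗ[F] (V × W)).symm : (V × W) →ₗ[F] (V × W))) =
        LinearMap.prodMap ((g : V →ₗ[F] V) + (g.symm : V →ₗ[F] V))
          ((g' : W →ₗ[F] W) + (g'.symm : W →ₗ[F] W)) := by
      ext v <;> simp
    rw [h1, LinearMap.charpoly_prodMap, hp, hp']

theorem charpoly_smul_id (c : F) :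
    (c • (LinearMap.id : V →ₗ[F] V)).charpoly = (X - C c) ^ finrank F V := by
  classical
  rw [← LinearMap.charpoly_toMatrix _ (finBasis F V)]
  have h1 : LinearMap.toMatrix (finBasis F V) (finBasis F V) (c • (LinearMap.id : V →ₗ[F] V)) =
      Matrix.diagonal fun _ => c := by
    rw [map_smul, LinearMap.toMatrix_id, Matrix.smul_one_eq_diagonal]
  rw [h1, Matrix.charpoly_diagonal]
  simp

theorem Rz.one (Q : V → F) : Rz Q ((X - C 2) ^ finrank F V) := by
  refine ⟨LinearEquiv.refl F V, fun v => rfl, ?_⟩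
  rw [← charpoly_smul_id]
  congr 1
  ext v
  simp [two_smul]

theorem Rz.neg {Q : V → F} (hQ : ∀ v, Q (-v) = Q v) : Rz Q ((X + C 2) ^ finrank F V) := by
  refine ⟨LinearEquiv.neg F, fun v => by simpa using hQ v, ?_⟩
  have : (X + C 2 : F[X]) = X - C (-2) := by simp
  rw [this, ← charpoly_smul_id]
  congr 1
  ext v
  simp [two_smul]

end Rz

variable {F : Type*} [Field F] {h : F[X]} (hh : h.Monic)

/-- coefficient of `s^(n-1)` -/
noncomputable def tau : AdjoinRoot h →ₗ[F] F :=
  (Polynomial.lcoeff F (h.natDegree - 1)).comp (AdjoinRoot.modByMonicHom hh)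

theorem tau_mk (f : F[X]) : tau hh (AdjoinRoot.mk h f) = (f %ₘ h).coeff (h.natDegree - 1) := by
  rw [tau, LinearMap.comp_apply, AdjoinRoot.modByMonicHom_mk]
  rfl

theorem tau_mk_of_degree_lt {f : F[X]} (hf : f.degree < h.degree) :
    tau hh (AdjoinRoot.mk h f) = f.coeff (h.natDegree - 1) := by
  rw [tau_mk, (modByMonic_eq_self_iff hh).2 hf]

/-- the canonical representative -/
noncomputable def rep (x : AdjoinRoot h) : F[X] := AdjoinRoot.modByMonicHom hh x

theorem mk_rep (x : AdjoinRoot h) : AdjoinRoot.mk h (rep hh x) = x :=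
  AdjoinRoot.mk_leftInverse hh x

theorem degree_rep_lt (x : AdjoinRoot h) : (rep hh x).degree < h.degree := by
  rw [← mk_rep hh x, rep, AdjoinRoot.modByMonicHom_mk]
  exact degree_modByMonic_lt _ hh

theorem tau_nondeg {x : AdjoinRoot h} (hx : ∀ y, tau hh (x * y) = 0) : x = 0 := by
  by_contra hne
  have hr : rep hh x ≠ 0 := by
    intro h0
    apply hne
    rw [← mk_rep hh x, h0, map_zero]
  have hd := degree_rep_lt hh x
  have hd' : (rep hh x).natDegree < h.natDegree := natDegree_lt_natDegree hr hd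
  have h1 := hx (AdjoinRoot.mk h (X ^ (h.natDegree - 1 - (rep hh x).natDegree)))
  have h2 : x * AdjoinRoot.mk h (X ^ (h.natDegree - 1 - (rep hh x).natDegree)) =
      AdjoinRoot.mk h (rep hh x * X ^ (h.natDegree - 1 - (rep hh x).natDegree)) := by
    rw [map_mul, mk_rep]
  rw [h2, tau_mk_of_degree_lt] at h1
  · have h3 : h.natDegree - 1 = (rep hh x).natDegree + (h.natDegree - 1 - (rep hh x).natDegree) := by
      omega
    rw [h3, coeff_mul_X_pow', if_pos (by omega)] at h1
    apply hr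
    rw [← leadingCoeff_eq_zero]
    rw [leadingCoeff, ← h1]
    congr 1
    omega
  · rw [degree_eq_natDegree hh.ne_zero, degree_eq_natDegree (mul_ne_zero hr (pow_ne_zero _ X_ne_zero)),
      natDegree_mul hr (pow_ne_zero _ X_ne_zero), natDegree_X_pow]
    norm_cast
    omega

/-- multiplication by `s` -/
noncomputable def ms (h : F[X]) : AdjoinRoot h →ₗ[F] AdjoinRoot h :=
  LinearMap.mulLeft F (AdjoinRoot.root h)

theorem ms_apply (x : AdjoinRoot h) : ms h x = AdjoinRoot.root h * x := rfl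

include hh in
theorem finite_adjoinRoot : Module.Finite F (AdjoinRoot h) := hh.finite_adjoinRoot

include hh in
theorem finrank_adjoinRoot : finrank F (AdjoinRoot h) = h.natDegree := by
  rw [(AdjoinRoot.powerBasis hh.ne_zero).finrank, AdjoinRoot.powerBasis_dim]

include hh in
theorem charpoly_ms [Module.Finite F (AdjoinRoot h)] : (ms h).charpoly = h := by
  classical
  have h1 := charpoly_leftMulMatrix (AdjoinRoot.powerBasis hh.ne_zero)
  rw [AdjoinRoot.minpoly_powerBasis_gen_of_monic hh] at h1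
  conv_rhs => rw [← h1]
  rw [Algebra.leftMulMatrix_apply, LinearMap.charpoly_toMatrix]
  congr 1

/-- the quadratic form `tau (x² + s x y + y²)` on `R × R` -/
noncomputable def Qh : QuadraticForm F (AdjoinRoot h × AdjoinRoot h) where
  toFun v := tau hh (v.1 * v.1 + AdjoinRoot.root h * (v.1 * v.2) + v.2 * v.2)
  toFun_smul a v := by
    rw [Prod.smul_fst, Prod.smul_snd, ← map_smul]
    congr 1
    simp only [Algebra.smul_def, map_mul]
    ring
  exists_companion' := by
    refine ⟨LinearMap.mk₂ F (fun v w => tau hh (2 * (v.1 * w.1) +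
      AdjoinRoot.root h * (v.1 * w.2 + w.1 * v.2) + 2 * (v.2 * w.2))) ?_ ?_ ?_ ?_, ?_⟩
    · intro u v w
      rw [← map_add]
      congr 1
      simp only [Prod.fst_add, Prod.snd_add]
      ring
    · intro c v w
      rw [← map_smul]
      congr 1
      simp only [Prod.smul_fst, Prod.smul_snd]
      simp only [Algebra.smul_def]
      ring
    · intro u v w
      rw [← map_add]
      congr 1
      simp only [Prod.fst_add, Prod.snd_add]
      ring
    · intro c v w
      rw [← map_smul]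
      congr 1
      simp only [Prod.smul_fst, Prod.smul_snd]
      simp only [Algebra.smul_def]
      ring
    · intro v w
      rw [LinearMap.mk₂_apply, ← map_add, ← map_add]
      congr 1
      simp only [Prod.fst_add, Prod.snd_add]
      ring

theorem Qh_apply (v : AdjoinRoot h × AdjoinRoot h) :
    Qh hh v = tau hh (v.1 * v.1 + AdjoinRoot.root h * (v.1 * v.2) + v.2 * v.2) := rfl

theorem polar_Qh (v w : AdjoinRoot h × AdjoinRoot h) :
    QuadraticMap.polar (Qh hh) v w = tau hh (2 * (v.1 * w.1) +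
      AdjoinRoot.root h * (v.1 * w.2 + w.1 * v.2) + 2 * (v.2 * w.2)) := by
  rw [QuadraticMap.polar, Qh_apply, Qh_apply, Qh_apply, ← map_sub, ← map_sub]
  congr 1
  simp only [Prod.fst_add, Prod.snd_add]
  ring

/-- multiplication by `X` -/
noncomputable def gX (h : F[X]) : (AdjoinRoot h × AdjoinRoot h) ≃ₗ[F] (AdjoinRoot h × AdjoinRoot h) where
  toFun v := (-v.2, v.1 + AdjoinRoot.root h * v.2)
  map_add' v w := by
    ext <;> simp [mul_add] <;> ring
  map_smul' c v := by
    ext <;> simp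
  invFun v := (AdjoinRoot.root h * v.1 + v.2, -v.1)
  left_inv v := by
    ext <;> simp
  right_inv v := by
    ext <;> simp

theorem gX_apply (v : AdjoinRoot h × AdjoinRoot h) :
    gX h v = (-v.2, v.1 + AdjoinRoot.root h * v.2) := rfl

theorem gX_symm_apply (v : AdjoinRoot h × AdjoinRoot h) :
    (gX h).symm v = (AdjoinRoot.root h * v.1 + v.2, -v.1) := rfl

theorem Qh_gX (v : AdjoinRoot h × AdjoinRoot h) : Qh hh (gX h v) = Qh hh v := by
  rw [Qh_apply, Qh_apply, gX_apply]
  congr 1
  ring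

theorem gX_add_symm : ((gX h : (AdjoinRoot h × AdjoinRoot h) →ₗ[F] (AdjoinRoot h × AdjoinRoot h)) +
    ((gX h).symm : (AdjoinRoot h × AdjoinRoot h) →ₗ[F] (AdjoinRoot h × AdjoinRoot h))) =
    LinearMap.prodMap (ms h) (ms h) := by
  refine LinearMap.ext fun v => ?_
  rw [LinearMap.add_apply, LinearEquiv.coe_coe, LinearEquiv.coe_coe, gX_apply, gX_symm_apply,
    LinearMap.prodMap_apply, ms_apply, ms_apply]
  ext <;> simp

theorem rz_Qh [Module.Finite F (AdjoinRoot h)] : Rz (Qh hh) (h ^ 2) := by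
  refine ⟨gX h, Qh_gX hh, ?_⟩
  rw [gX_add_symm, LinearMap.charpoly_prodMap, charpoly_ms hh, sq]

/-- `s - c` is a unit if `h(c) ≠ 0` -/
theorem isUnit_root_sub {c : F} (hc : h.eval c ≠ 0) :
    IsUnit (AdjoinRoot.root h - algebraMap F (AdjoinRoot h) c) := by
  obtain ⟨w, hw⟩ := X_sub_C_dvd_sub_C_eval (a := c) (p := h)
  have h1 := congrArg (AdjoinRoot.mk h) hw
  rw [map_sub, AdjoinRoot.mk_self, map_mul, map_sub, AdjoinRoot.mk_X, AdjoinRoot.mk_C,
    AdjoinRoot.mk_C] at h1
  refine IsUnit.of_mul_eq_one (AdjoinRoot.mk h w * AdjoinRoot.of h (-(h.eval c)⁻¹)) ?_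
  have h3 : algebraMap F (AdjoinRoot h) c = AdjoinRoot.of h c := rfl
  rw [h3, ← mul_assoc, ← h1, zero_sub, neg_mul, ← mul_neg, ← map_neg, neg_neg, ← map_mul,
    mul_inv_cancel₀ hc, map_one]

theorem nondeg_Qh (h1 : h.eval 2 ≠ 0) (h2 : h.eval (-2) ≠ 0) {v : AdjoinRoot h × AdjoinRoot h}
    (hv : ∀ w, QuadraticMap.polar (Qh hh) v w = 0) : v = 0 := by
  set s := AdjoinRoot.root h with hs
  have h3 : 2 * v.1 + s * v.2 = 0 := by
    apply tau_nondeg hh
    intro y
    have := hv (y, 0)
    rw [polar_Qh] at this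
    rw [← this]
    congr 1
    simp only [← hs]
    ring
  have h4 : s * v.1 + 2 * v.2 = 0 := by
    apply tau_nondeg hh
    intro y
    have := hv (0, y)
    rw [polar_Qh] at this
    rw [← this]
    congr 1
    simp only [← hs]
    ring
  have u1 := isUnit_root_sub (h := h) h1
  have u2 := isUnit_root_sub (h := h) h2
  have h5 : (algebraMap F (AdjoinRoot h) 2) = 2 := map_ofNat _ 2
  have h6 : (algebraMap F (AdjoinRoot h) (-2)) = -2 := by rw [map_neg, h5]
  rw [h5, ← hs] at u1
  rw [h6, ← hs] at u2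
  have u := u1.mul u2
  ext
  · have : (s - 2) * (s - -2) * v.1 = 0 := by linear_combination s * h4 - 2 * h3
    simpa using (u.mul_right_eq_zero).1 this
  · have : (s - 2) * (s - -2) * v.2 = 0 := by linear_combination s * h3 - 2 * h4
    simpa using (u.mul_right_eq_zero).1 this

end Cfsg.Agent.H174.CN
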