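import Cfsg.Agent.H174.F2Forms
import Cfsg.Agent.H174.CNRing

/-!
Characteristic two: the character `psi` of `F / {w² + w}` and Gauss sums of quadratic forms.
-/

set_option autoImplicit false

namespace Cfsg.Agent.H174.CN

open Polynomial Module

variable {F : Type*} [Field F]

/-- `z` is of the form `w² + w` -/
def IsAS (z : F) : Prop := ∃ w : F, w ^ 2 + w = z

/-- the additive character of a finite field of characteristic two with kernel `{w² + w}` -/
noncomputable def psi (z : F) : ℤ := by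
  classical exact if IsAS z then 1 else -1

theorem psi_of_isAS {z : F} (h : IsAS z) : psi z = 1 := if_pos h

theorem psi_of_not_isAS {z : F} (h : ¬ IsAS z) : psi z = -1 := if_neg h

theorem psi_eq_one_iff {z : F} : psi z = 1 ↔ IsAS z := by
  by_cases h : IsAS z
  · simp [psi_of_isAS h, h]
  · simp [psi_of_not_isAS h, h]

section two

variable [CharP F 2]

theorem add_self' (a : F) : a + a = 0 := CharTwo.add_self_eq_zero a

omit [CharP F 2] in
theorem IsAS.zero : IsAS (0 : F) := ⟨0, by simp⟩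

theorem IsAS.add {a b : F} (ha : IsAS a) (hb : IsAS b) : IsAS (a + b) := by
  obtain ⟨w, rfl⟩ := ha
  obtain ⟨v, rfl⟩ := hb
  exact ⟨w + v, by rw [CharTwo.add_sq]; ring⟩

/-- the Artin–Schreier map -/
def asHom (F : Type*) [Field F] [CharP F 2] : F →+ F where
  toFun w := w ^ 2 + w
  map_zero' := by simp
  map_add' a b := by rw [CharTwo.add_sq]; ring

theorem card_ker_asHom [Finite F] : Nat.card (asHom F).ker = 2 := by
  have h1 : ((asHom F).ker : Set F) = {0, 1} := by
    ext w
    simp only [SetLike.mem_coe, AddMonoidHom.mem_ker, Set.mem_insert_iff, Set.mem_singleton_iff]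
    change w ^ 2 + w = 0 ↔ _
    constructor
    · intro h
      have : w * (w + 1) = 0 := by rw [← h]; ring
      rcases mul_eq_zero.1 this with h | h
      · exact Or.inl h
      · right
        have h2 := add_self' (1 : F)
        linear_combination h - h2
    · rintro (rfl | rfl)
      · simp
      · simp [add_self']
  have h2 : Nat.card (asHom F).ker = Set.ncard ((asHom F).ker : Set F) := rfl
  rw [h2, h1]
  exact Set.ncard_pair zero_ne_one

theorem index_range_asHom [Finite F] : (asHom F).range.index = 2 := by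
  have h1 := (asHom F).ker.card_mul_index
  have h2 := (asHom F).range.card_mul_index
  have h3 : (asHom F).ker.index = Nat.card (asHom F).range := AddSubgroup.index_ker _
  have h4 : 0 < Nat.card (asHom F).range := Nat.card_pos
  rw [h3, card_ker_asHom] at h1
  rw [← h1] at h2
  have : Nat.card (asHom F).range * (asHom F).range.index = Nat.card (asHom F).range * 2 := by
    rw [h2]; ring
  exact Nat.eq_of_mul_eq_mul_left h4 this

theorem isAS_iff_mem (z : F) : IsAS z ↔ z ∈ (asHom F).range := by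
  rw [AddMonoidHom.mem_range]
  rfl

theorem isAS_add_iff [Finite F] (a b : F) : IsAS (a + b) ↔ (IsAS a ↔ IsAS b) := by
  rw [isAS_iff_mem, isAS_iff_mem, isAS_iff_mem]
  exact AddSubgroup.add_mem_iff_of_index_two index_range_asHom

theorem psi_add [Finite F] (a b : F) : psi (a + b) = psi a * psi b := by
  have h := isAS_add_iff a b
  by_cases ha : IsAS a <;> by_cases hb : IsAS b
  · rw [psi_of_isAS ha, psi_of_isAS hb, psi_of_isAS (h.2 (by simp [ha, hb]))]; rfl
  · rw [psi_of_isAS ha, psi_of_not_isAS hb, psi_of_not_isAS (by rw [h]; simp [ha, hb])]; rfl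
  · rw [psi_of_not_isAS ha, psi_of_isAS hb, psi_of_not_isAS (by rw [h]; simp [ha, hb])]; rfl
  · rw [psi_of_not_isAS ha, psi_of_not_isAS hb, psi_of_isAS (by rw [h]; simp [ha, hb])]; rfl

theorem exists_not_isAS [Finite F] : ∃ z : F, ¬ IsAS z := by
  by_contra hc
  push Not at hc
  have h1 : (asHom F).range = ⊤ := by
    rw [eq_top_iff]
    intro z _
    exact (isAS_iff_mem z).1 (hc z)
  have h2 := index_range_asHom (F := F)
  rw [h1, AddSubgroup.index_top] at h2
  omega

theorem psi_sq [Finite F] (z : F) : psi (z ^ 2) = psi z := by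
  have h1 : IsAS (z ^ 2 + z) := ⟨z, rfl⟩
  have h2 := psi_add (z ^ 2) z
  rw [psi_of_isAS h1] at h2
  by_cases hz : IsAS z
  · rw [psi_of_isAS hz] at h2 ⊢; linarith
  · rw [psi_of_not_isAS hz] at h2 ⊢; linarith

theorem psi_zero : psi (0 : F) = 1 := psi_of_isAS IsAS.zero

/-- sum of a nontrivial `ℤ`-valued character -/
theorem sum_char_eq_zero {A : Type*} [AddGroup A] [Fintype A] (f : A → ℤ)
    (hf : ∀ a b, f (a + b) = f a * f b) {a₀ : A} (h₀ : f a₀ = -1) : ∑ a, f a = 0 := by
  have h1 : ∑ a, f a = ∑ a, f (a + a₀) := (Equiv.sum_comp (Equiv.addRight a₀) f).symm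
  simp only [hf, h₀, ← Finset.sum_mul] at h1
  linarith

theorem sum_psi_mul [Fintype F] [DecidableEq F] (z : F) :
    ∑ c : F, psi (c * z) = if z = 0 then (Fintype.card F : ℤ) else 0 := by
  split_ifs with h
  · subst h
    simp [psi_zero]
  · obtain ⟨y, hy⟩ := exists_not_isAS (F := F)
    refine sum_char_eq_zero _ (fun a b => ?_) (a₀ := y / z) ?_
    · rw [add_mul, psi_add]
    · rw [div_mul_cancel₀ _ h]
      exact psi_of_not_isAS hy

/-- sum over a linear functional -/
theorem sum_psi_linear [Finite F] {V : Type*} [AddCommGroup V] [Module F V] [Fintype V]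
    (f : V →ₗ[F] F) (hf : f ≠ 0) : ∑ v, psi (f v) = 0 := by
  obtain ⟨y, hy⟩ := exists_not_isAS (F := F)
  obtain ⟨v, hv⟩ : ∃ v, f v ≠ 0 := by
    by_contra hc
    push Not at hc
    exact hf (LinearMap.ext hc)
  refine sum_char_eq_zero _ (fun a b => ?_) (a₀ := (y / f v) • v) ?_
  · rw [map_add, psi_add]
  · rw [map_smul, smul_eq_mul, div_mul_cancel₀ _ hv]
    exact psi_of_not_isAS hy

/-- Gauss sum of a form -/
noncomputable def gsum {V : Type*} [Fintype V] (Q : V → F) : ℤ := ∑ v, psi (Q v)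

omit [CharP F 2] in
theorem gsum_congr {V W : Type*} [Fintype V] [Fintype W] {Q : V → F} {Q' : W → F} (e : V ≃ W)
    (h : ∀ v, Q v = Q' (e v)) : gsum Q = gsum Q' := by
  rw [gsum, gsum, ← Equiv.sum_comp e]
  exact Finset.sum_congr rfl fun v _ => by rw [h]

theorem gsum_prod [Finite F] {V W : Type*} [Fintype V] [Fintype W] (Q : V → F) (Q' : W → F) :
    gsum (fun x : V × W => Q x.1 + Q' x.2) = gsum Q * gsum Q' := by
  rw [gsum, gsum, gsum, Finset.sum_mul_sum, ← Finset.univ_product_univ, Finset.sum_product]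
  refine Finset.sum_congr rfl fun x _ => Finset.sum_congr rfl fun y _ => ?_
  rw [psi_add]

variable [Fintype F]

theorem gsum_plus (m : ℕ) : gsum (Cfsg.quadFormPlus m F) = (Fintype.card F : ℤ) ^ m := by
  classical
  have e : (Fin m ⊕ Fin m → F) ≃ (Fin m → F) × (Fin m → F) := Equiv.sumArrowEquivProdArrow _ _ _
  have h1 : gsum (Cfsg.quadFormPlus m F) =
      ∑ x : Fin m → F, ∑ y : Fin m → F, psi (∑ i, x i * y i) := by
    rw [gsum, ← Finset.sum_product', Finset.univ_product_univ,
      ← Equiv.sum_comp (Equiv.sumArrowEquivProdArrow (Fin m) (Fin m) F)]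
    rfl
  rw [h1]
  have h2 : ∀ x : Fin m → F, ∑ y : Fin m → F, psi (∑ i, x i * y i) =
      if x = 0 then ((Fintype.card F : ℤ)) ^ m else 0 := by
    intro x
    split_ifs with hx
    · subst hx
      simp [psi_zero]
    · have : ∑ y : Fin m → F, psi (∑ i, x i * y i) =
        ∑ y : Fin m → F, psi ((∑ i, x i • LinearMap.proj i : (Fin m → F) →ₗ[F] F) y) := by
        refine Finset.sum_congr rfl fun y _ => ?_
        simp [LinearMap.sum_apply]
      rw [this]
      apply sum_psi_linear
      intro h0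
      apply hx
      funext i
      have := LinearMap.congr_fun h0 (Pi.single i 1)
      simpa [LinearMap.sum_apply, Pi.single_apply] using this
  rw [Finset.sum_congr rfl fun x _ => h2 x]
  simp

theorem gsum_binary {a b : F} (hab : ∀ z₁ z₂ : F, z₁ ^ 2 + a * z₁ * z₂ + b * z₂ ^ 2 = 0 → z₁ = 0 ∧ z₂ = 0) :
    gsum (fun z : F × F => z.1 ^ 2 + a * z.1 * z.2 + b * z.2 ^ 2) = -(Fintype.card F : ℤ) := by
  classical
  set Q : F × F → F := fun z => z.1 ^ 2 + a * z.1 * z.2 + b * z.2 ^ 2 with hQ
  have h1 : ∑ c : F, ∑ z : F × F, psi (c * Q z) = (Fintype.card F : ℤ) := by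
    rw [Finset.sum_comm]
    have : ∀ z : F × F, ∑ c : F, psi (c * Q z) = if z = 0 then (Fintype.card F : ℤ) else 0 := by
      intro z
      rw [sum_psi_mul]
      have : Q z = 0 ↔ z = 0 := by
        constructor
        · intro h
          obtain ⟨h3, h4⟩ := hab _ _ h
          exact Prod.ext h3 h4
        · rintro rfl
          simp [hQ]
      simp [this]
    rw [Finset.sum_congr rfl fun z _ => this z]
    simp
  have h2 : ∀ c : F, c ≠ 0 → ∑ z : F × F, psi (c * Q z) = gsum Q := by
    intro c hc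
    obtain ⟨d, hd⟩ : ∃ d : F, d ^ 2 = c := by
      obtain ⟨d, hd⟩ := FiniteField.isSquare_of_char_two (CharP.ringChar_of_prime_eq_zero
        Nat.prime_two (CharP.cast_eq_zero F 2)) c
      exact ⟨d, by rw [hd, sq]⟩
    have hd0 : d ≠ 0 := by rintro rfl; simp at hd; exact hc hd.symm
    rw [gsum]
    let e : F × F ≃ F × F := Equiv.prodCongr (Equiv.mulLeft₀ d hd0) (Equiv.mulLeft₀ d hd0)
    rw [← Equiv.sum_comp e (fun z => psi (Q z))]
    refine Finset.sum_congr rfl fun z _ => ?_
    congr 1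
    change c * (z.1 ^ 2 + a * z.1 * z.2 + b * z.2 ^ 2) = (d * z.1) ^ 2 + a * (d * z.1) * (d * z.2) + b * (d * z.2) ^ 2
    rw [← hd]
    ring
  have h3 : ∑ c : F, ∑ z : F × F, psi (c * Q z) = (Fintype.card F : ℤ) ^ 2 +
      ((Fintype.card F : ℤ) - 1) * gsum Q := by
    rw [← Finset.add_sum_erase _ _ (Finset.mem_univ (0 : F)),
      Finset.sum_congr rfl fun c hc => h2 c (Finset.ne_of_mem_erase hc)]
    have h4 : (Finset.univ.erase (0 : F)).card = Fintype.card F - 1 := by
      rw [Finset.card_erase_of_mem (Finset.mem_univ _), Finset.card_univ]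
    have h5 : 1 ≤ Fintype.card F := Fintype.card_pos
    rw [Finset.sum_const, h4, nsmul_eq_mul, Nat.cast_sub h5]
    simp [psi_zero, Fintype.card_prod]
    ring
  rw [h1] at h3
  have h6 : (1 : ℤ) < Fintype.card F := by exact_mod_cast Fintype.one_lt_card
  have h7 : ((Fintype.card F : ℤ) - 1) * (gsum Q + Fintype.card F) = 0 := by
    linear_combination -h3
  rcases mul_eq_zero.1 h7 with h | h
  · omega
  · linarith

theorem gsum_minus (m : ℕ) {a b : F}
    (hab : ∀ z₁ z₂ : F, z₁ ^ 2 + a * z₁ * z₂ + b * z₂ ^ 2 = 0 → z₁ = 0 ∧ z₂ = 0) :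
    gsum (Cfsg.quadFormMinus m F a b) = -(Fintype.card F : ℤ) ^ (m + 1) := by
  have h1 := gsum_prod (Cfsg.quadFormPlus m F) (fun z : F × F => z.1 ^ 2 + a * z.1 * z.2 + b * z.2 ^ 2)
  rw [gsum_plus, gsum_binary hab] at h1
  rw [← gsum_congr ((Equiv.sumArrowEquivProdArrow (Fin m ⊕ Fin m) (Fin 2) F).trans
    (Equiv.prodCongr (Equiv.refl _) (finTwoArrowEquiv F)))] at h1
  · rw [h1]; ring
  · intro v
    rfl

end two

end Cfsg.Agent.H174.CN
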