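import Cfsg.Prelude.Def_Classical
import Cfsg.Agent.H174.CNRing

/-!
Lower bound for the number of conjugacy classes by characteristic polynomials of `g + g⁻¹`.
-/

set_option autoImplicit false

namespace Cfsg.Agent.H174.CN

open Polynomial Module Cfsg

theorem card_le_conjClasses {G α : Type*} [Group G] [Finite G] (f : G → α)
    (hf : ∀ a b, IsConj a b → f a = f b) (s : Finset α) (hs : ∀ x ∈ s, ∃ g, f g = x) :
    s.card ≤ Nat.card (ConjClasses G) := by
  classical
  choose! k hk using hs
  have h1 : Function.Injective (fun x : s => ConjClasses.mk (k x.1)) := by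
    intro x y hxy
    have h2 := hf _ _ (ConjClasses.mk_eq_mk_iff_isConj.1 hxy)
    rw [hk x.1 x.2, hk y.1 y.2] at h2
    exact Subtype.ext h2
  have h3 := Nat.card_le_card_of_injective _ h1
  simpa using h3

variable {ι : Type} [Fintype ι] [DecidableEq ι] {F : Type*} [Field F]

theorem charpoly_add_inv_conj (G : Subgroup (Matrix.GeneralLinearGroup ι F)) (a b : G) (h : IsConj a b) :
    (((a : Matrix.GeneralLinearGroup ι F) : Matrix ι ι F) +
      (((a : Matrix.GeneralLinearGroup ι F)⁻¹ : Matrix.GeneralLinearGroup ι F) : Matrix ι ι F)).charpoly =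
    (((b : Matrix.GeneralLinearGroup ι F) : Matrix ι ι F) +
      (((b : Matrix.GeneralLinearGroup ι F)⁻¹ : Matrix.GeneralLinearGroup ι F) : Matrix ι ι F)).charpoly := by
  obtain ⟨c, hc⟩ := isConj_iff.1 h
  rw [← hc]
  have h1 : (((c * a * c⁻¹ : G) : Matrix.GeneralLinearGroup ι F) : Matrix ι ι F) =
      (c : Matrix.GeneralLinearGroup ι F).val * (a : Matrix.GeneralLinearGroup ι F).val *
        ((c : Matrix.GeneralLinearGroup ι F)⁻¹).val := by
    simp
  have h2 : (((((c * a * c⁻¹ : G) : Matrix.GeneralLinearGroup ι F))⁻¹ :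
      Matrix.GeneralLinearGroup ι F) : Matrix ι ι F) =
      (c : Matrix.GeneralLinearGroup ι F).val * ((a : Matrix.GeneralLinearGroup ι F)⁻¹).val *
        ((c : Matrix.GeneralLinearGroup ι F)⁻¹).val := by
    have : ((((c * a * c⁻¹ : G) : Matrix.GeneralLinearGroup ι F))⁻¹ :
      Matrix.GeneralLinearGroup ι F) = (c : Matrix.GeneralLinearGroup ι F) *
        ((a : Matrix.GeneralLinearGroup ι F)⁻¹) * ((c : Matrix.GeneralLinearGroup ι F)⁻¹) := by
      simp [mul_assoc]
    rw [this, Units.val_mul, Units.val_mul]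
  rw [h1, h2, ← add_mul, ← mul_add, Matrix.coe_units_inv (c : Matrix.GeneralLinearGroup ι F),
    Matrix.charpoly_units_conj]

theorem mem_isometryGroup_iff {Q : (ι → F) → F} {g : Matrix.GeneralLinearGroup ι F} :
    g ∈ isometryGroup F Q ↔ ∀ u, Q ((g : Matrix ι ι F).mulVec u) = Q u :=
  ⟨fun h u => h u u, fun h u _ => h u⟩

/-- lower bound for the class number of an isometry group -/
theorem card_le_of_rz [Finite F] (Q : (ι → F) → F) (s : Finset F[X]) (hs : ∀ p ∈ s, Rz Q p) :
    s.card ≤ Nat.card (ConjClasses (isometryGroup F Q)) := by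
  refine card_le_conjClasses (fun g : isometryGroup F Q =>
    (((g : Matrix.GeneralLinearGroup ι F) : Matrix ι ι F) +
      (((g : Matrix.GeneralLinearGroup ι F)⁻¹ : Matrix.GeneralLinearGroup ι F) : Matrix ι ι F)).charpoly)
    (fun a b h => charpoly_add_inv_conj _ a b h) s ?_
  intro p hp
  obtain ⟨g, hg, hgp⟩ := hs p hp
  let u : Matrix.GeneralLinearGroup ι F := ⟨LinearMap.toMatrix' g.toLinearMap,
    LinearMap.toMatrix' g.symm.toLinearMap, by
      rw [← LinearMap.toMatrix'_comp, LinearEquiv.comp_coe]; simp, by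
      rw [← LinearMap.toMatrix'_comp, LinearEquiv.comp_coe]; simp⟩
  have hu : ∀ v, u.val.mulVec v = g v := fun v => by
    change (LinearMap.toMatrix' g.toLinearMap).mulVec v = _
    rw [← Matrix.toLin'_apply, Matrix.toLin'_toMatrix']
    rfl
  refine ⟨⟨u, ?_⟩, ?_⟩
  · rw [mem_isometryGroup_iff]
    intro v
    rw [hu, hg]
  · rw [← hgp]
    change (LinearMap.toMatrix' g.toLinearMap + LinearMap.toMatrix' g.symm.toLinearMap).charpoly = _
    rw [← map_add, ← LinearMap.charpoly_toMatrix _ (Pi.basisFun F ι)]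
    rfl

end Cfsg.Agent.H174.CN
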