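import Cfsg.Agent.H174.CNType

/-!
Lower bound for the class numbers of `O^±(2n,q)`, `q` even.
-/

set_option autoImplicit false

namespace Cfsg.Agent.H174.CN

open Polynomial Module Cfsg

universe u

variable {F : Type u} [Field F] [CharP F 2] [Fintype F]

omit [CharP F 2] [Fintype F] in
theorem gsum_inst {V : Type*} (i j : Fintype V) (Q : V → F) : @gsum F _ V i Q = @gsum F _ V j Q := by
  rw [Subsingleton.elim i j]

omit [Fintype F] in
theorem X_sub_C_two : (X - C 2 : F[X]) = X := by
  rw [two_eq_zero' (F := F), C_0, sub_zero]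

omit [Fintype F] in
theorem eval_two (h : F[X]) : h.eval 2 = h.coeff 0 := by
  rw [two_eq_zero' (F := F), coeff_zero_eq_eval_zero]

omit [Fintype F] in
theorem eval_neg_two (h : F[X]) : h.eval (-2) = h.coeff 0 := by
  rw [two_eq_zero' (F := F), neg_zero, coeff_zero_eq_eval_zero]

omit [Fintype F] in
theorem Qh_nondegenerate {h : F[X]} (hh : h.Monic) (h0 : h.coeff 0 ≠ 0) :
    (QuadraticMap.polarBilin (Qh hh)).Nondegenerate :=
  nondeg_of _ fun _ hv => nondeg_Qh hh (by rwa [eval_two]) (by rwa [eval_neg_two]) hv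

omit [CharP F 2] [Fintype F] in
/-- realization on an abstract space whose form is a product -/
theorem prod_nondeg {V W : Type*} [AddCommGroup V] [Module F V] [AddCommGroup W] [Module F W]
    {Q : QuadraticForm F V} {Q' : QuadraticForm F W} (h : (QuadraticMap.polarBilin Q).Nondegenerate)
    (h' : (QuadraticMap.polarBilin Q').Nondegenerate) :
    (QuadraticMap.polarBilin (Q.prod Q')).Nondegenerate := by
  apply nondeg_of
  intro v hv
  ext
  · apply h.1
    intro w
    have := hv (w, 0)
    simpa [QuadraticMap.polar] using this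
  · apply h'.1
    intro w
    have := hv (0, w)
    simpa [QuadraticMap.polar] using this

omit [CharP F 2] [Fintype F] in
/-- a polynomial of degree `n` is `X^k * h'` with `h'(0) ≠ 0` -/
theorem exists_factor {h : F[X]} (hh : h.Monic) : ∃ (k : ℕ) (h' : F[X]), h = X ^ k * h' ∧ h'.Monic ∧
    h'.coeff 0 ≠ 0 ∧ h.natDegree = k + h'.natDegree := by
  obtain ⟨h', h1, h2⟩ := exists_eq_pow_rootMultiplicity_mul_and_not_dvd h hh.ne_zero 0
  rw [C_0, sub_zero] at h1 h2
  have h3 : h'.Monic := by
    have : (X ^ h.rootMultiplicity 0 * h').Monic := h1 ▸ hh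
    exact (monic_X_pow _).of_mul_monic_left this
  refine ⟨_, h', h1, h3, ?_, ?_⟩
  · intro h4
    exact h2 (X_dvd_iff.2 h4)
  · conv_lhs => rw [h1]
    rw [(monic_X_pow _).natDegree_mul h3, natDegree_X_pow]

omit [CharP F 2] [Fintype F] in
theorem psi_cases (z : F) : psi z = 1 ∨ psi z = -1 := by
  by_cases hz : IsAS z
  · exact Or.inl (psi_of_isAS hz)
  · exact Or.inr (psi_of_not_isAS hz)

/-- existence of nondegenerate forms of each type on some space -/
theorem exists_form {a b : F} (hab : ∀ z₁ z₂ : F, z₁ ^ 2 + a * z₁ * z₂ + b * z₂ ^ 2 = 0 → z₁ = 0 ∧ z₂ = 0)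
    (k : ℕ) (hk : 1 ≤ k) {ε : ℤ} (hε : ε = 1 ∨ ε = -1) :
    ∃ (ι : Type) (_ : Fintype ι) (Q : QuadraticForm F (ι → F)), Fintype.card ι = 2 * k ∧
      (QuadraticMap.polarBilin Q).Nondegenerate ∧
      ∀ (_ : Fintype (ι → F)), gsum Q = ε * (Fintype.card F : ℤ) ^ k := by
  classical
  rcases hε with rfl | rfl
  · refine ⟨Fin k ⊕ Fin k, inferInstance, plusQ k F, ?_, ?_, ?_⟩
    · simp; omega
    · have : QuadraticMap.polarBilin (plusQ k F) =
          ClassicalGeometry.QuadPlusBasic.polarForm k F := by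
        refine LinearMap.ext fun u => LinearMap.ext fun v => ?_
        exact polar_plusQ k F u v
      rw [this]
      exact ClassicalGeometry.QuadPlusBasic.polarForm_nondegenerate k F
    · intro inst
      rw [one_mul, ← gsum_plus k]
      exact gsum_inst _ _ _
  · refine ⟨(Fin (k - 1) ⊕ Fin (k - 1)) ⊕ Fin 2, inferInstance, minusQ (k - 1) F a b, ?_, ?_, ?_⟩
    · simp; omega
    · exact minusQ_nondeg (k - 1) hab
    · intro inst
      have h1 := gsum_minus (k - 1) hab
      rw [Nat.sub_add_cancel hk] at h1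
      rw [neg_one_mul, ← h1]
      exact gsum_inst _ _ _

theorem rz_of_recog {ι : Type} [Fintype ι] [DecidableEq ι] (Q : (ι → F) → F) {ε : ℤ} {n : ℕ}
    (hε : ε = 1 ∨ ε = -1)
    (hrec : ∀ {V : Type u} [AddCommGroup V] [Module F V] [FiniteDimensional F V] [Fintype V],
      finrank F V = 2 * n → ∀ (Q' : QuadraticForm F V),
      (QuadraticMap.polarBilin Q').Nondegenerate → gsum Q' = ε * (Fintype.card F : ℤ) ^ n →
      ∃ e : V ≃ₗ[F] (ι → F), ∀ v, Q' v = Q (e v))
    (hcard : Fintype.card ι = 2 * n)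
    {a b : F} (hab : ∀ z₁ z₂ : F, z₁ ^ 2 + a * z₁ * z₂ + b * z₂ ^ 2 = 0 → z₁ = 0 ∧ z₂ = 0)
    {h : F[X]} (hh : h.Monic) (hn : h.natDegree = n) (hn0 : 0 < n)
    (hs : h.coeff 0 = 0 ∨ psi (h.coeff 1 / h.coeff 0) = ε) : Rz Q (h ^ 2) := by
  classical
  have hfr : ∀ {f : F[X]}, f.Monic → f.coeff 0 ≠ 0 → 0 < f.natDegree →
      ∀ (_ : Fintype (AdjoinRoot f × AdjoinRoot f)) (hf : f.Monic),
      gsum (Qh hf) = (Fintype.card F : ℤ) ^ f.natDegree * psi (f.coeff 1 / f.coeff 0) := by
    intro f _ hf0 hfd inst hf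
    have := finite_adjoinRoot hf
    have : Finite (AdjoinRoot f) := Module.finite_of_finite F
    have := Fintype.ofFinite (AdjoinRoot f)
    have h1 := gsum_Qh hf hfd hf0
    have h2 : (Fintype.card (AdjoinRoot f) : ℤ) = (Fintype.card F : ℤ) ^ f.natDegree := by
      rw [Module.card_eq_pow_finrank (K := F), finrank_adjoinRoot hf]
      push_cast
      rfl
    rw [← h2, ← h1]
    exact gsum_inst _ _ _
  rcases eq_or_ne (h.coeff 0) 0 with h0 | h0
  · obtain ⟨k, h', h1, h2, h3, h4⟩ := exists_factor hh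
    have hk : 1 ≤ k := by
      by_contra hk
      have : k = 0 := by omega
      rw [this, pow_zero, one_mul] at h1
      rw [h1] at h0
      exact h3 h0
    rcases Nat.eq_zero_or_pos h'.natDegree with h5 | h5
    · have h6 : h' = 1 := h2.natDegree_eq_zero.1 h5
      have h7 := Rz.one Q
      rw [X_sub_C_two, finrank_fintype_fun_eq_card, hcard] at h7
      have h8 : h ^ 2 = X ^ (2 * n) := by
        rw [h1, h6, mul_one, ← pow_mul]
        congr 1
        omega
      rw [h8]
      exact h7
    · have : Module.Finite F (AdjoinRoot h') := finite_adjoinRoot h2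
      have : Finite (AdjoinRoot h') := Module.finite_of_finite F
      have := Fintype.ofFinite (AdjoinRoot h')
      have hε' : ε * psi (h'.coeff 1 / h'.coeff 0) = 1 ∨ ε * psi (h'.coeff 1 / h'.coeff 0) = -1 := by
        rcases hε with rfl | rfl <;> rcases psi_cases (h'.coeff 1 / h'.coeff 0) with h9 | h9 <;>
          simp [h9]
      obtain ⟨κ, _, U, hκ, hU, hUg⟩ := exists_form hab k hk hε'
      have hUg' := hUg (Fintype.ofFinite _)
      let _ : Fintype (κ → F) := Fintype.ofFinite _
      have h9 : finrank F ((AdjoinRoot h' × AdjoinRoot h') × (κ → F)) = 2 * n := by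
        rw [finrank_prod, finrank_prod, finrank_adjoinRoot h2, finrank_fintype_fun_eq_card, hκ]
        omega
      have h10 : gsum ((Qh h2).prod U) = ε * (Fintype.card F : ℤ) ^ n := by
        have h11 := gsum_prod (Qh h2) U
        rw [hfr h2 h3 h5 inferInstance h2, hUg'] at h11
        have h12 : gsum ((Qh h2).prod U) =
          gsum (fun x : (AdjoinRoot h' × AdjoinRoot h') × (κ → F) => Qh h2 x.1 + U x.2) :=
          gsum_congr (Equiv.refl _) fun v => rfl
        rw [h12, h11, ← hn, h4, pow_add]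
        rcases psi_cases (h'.coeff 1 / h'.coeff 0) with h13 | h13 <;> rw [h13] <;> ring
      obtain ⟨e, he⟩ := hrec h9 ((Qh h2).prod U) (prod_nondeg (Qh_nondegenerate h2 h3) hU) h10
      have h14 := (rz_Qh h2).prod (Rz.one U)
      have h15 := h14.congr e he
      rw [X_sub_C_two, finrank_fintype_fun_eq_card, hκ] at h15
      rw [h1, mul_pow, ← pow_mul, mul_comm k 2, mul_comm]
      exact h15
  · have hs' : psi (h.coeff 1 / h.coeff 0) = ε := by
      rcases hs with h1 | h1
      · exact absurd h1 h0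
      · exact h1
    have : Module.Finite F (AdjoinRoot h) := finite_adjoinRoot hh
    have : Finite (AdjoinRoot h) := Module.finite_of_finite F
    have := Fintype.ofFinite (AdjoinRoot h)
    have h1 := hfr hh h0 (by omega) inferInstance hh
    have h2 : finrank F (AdjoinRoot h × AdjoinRoot h) = 2 * n := by
      rw [finrank_prod, finrank_adjoinRoot hh]
      omega
    obtain ⟨e, he⟩ := hrec h2 (Qh hh) (Qh_nondegenerate hh h0) (by rw [h1, hs', hn, mul_comm])
    exact (rz_Qh hh).congr e he

end Cfsg.Agent.H174.CN
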