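import Cfsg.Agent.H174.CNEven

/-!
`q^n ≤ 2 k(O^±(2n,q))` for `q` even, `n ≥ 2`.
-/

set_option autoImplicit false

namespace Cfsg.Agent.H174.CN

open Polynomial Module Cfsg

universe u

section pol

variable {F : Type u} [Field F]

/-- the monic polynomial of degree `n` with lower coefficients `v` -/
noncomputable def pol {n : ℕ} (v : Fin n → F) : F[X] := X ^ n + ∑ i : Fin n, C (v i) * X ^ (i : ℕ)

theorem pol_monic {n : ℕ} (v : Fin n → F) : (pol v).Monic :=
  monic_X_pow_add (degree_sum_fin_lt v)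

theorem natDegree_pol {n : ℕ} (v : Fin n → F) : (pol v).natDegree = n := by
  apply natDegree_eq_of_degree_eq_some
  rw [pol, degree_add_eq_left_of_degree_lt, degree_X_pow]
  rw [degree_X_pow]
  exact degree_sum_fin_lt v

theorem coeff_pol {n : ℕ} (v : Fin n → F) (j : Fin n) : (pol v).coeff j = v j := by
  rw [pol, coeff_add, coeff_X_pow, if_neg (by omega), zero_add, finsetSum_coeff]
  simp only [coeff_C_mul, coeff_X_pow]
  rw [Finset.sum_eq_single j]
  · simp
  · intro b _ hb
    rw [if_neg, mul_zero]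
    intro h
    exact hb (Fin.ext h.symm)
  · simp

theorem pol_injective (n : ℕ) : Function.Injective (pol : (Fin n → F) → F[X]) := by
  intro v w h
  funext j
  rw [← coeff_pol v j, ← coeff_pol w j, h]

theorem monic_sq_inj {p q : F[X]} (hp : p.Monic) (hq : q.Monic) (h : p ^ 2 = q ^ 2) : p = q := by
  rcases sq_eq_sq_iff_eq_or_eq_neg.1 h with h1 | h1
  · exact h1
  · have h2 : p.leadingCoeff = -q.leadingCoeff := by rw [h1, leadingCoeff_neg]
    rw [hp.leadingCoeff, hq.leadingCoeff] at h2
    have h3 : (2 : F) = 0 := by linear_combination h2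
    have h4 : (2 : F[X]) = 0 := by rw [← C_ofNat, h3, C_0]
    rw [h1]
    linear_combination -q * h4

theorem pol_sq_injective (n : ℕ) : Function.Injective (fun v : Fin n → F => pol v ^ 2) :=
  fun v w h => pol_injective n (monic_sq_inj (pol_monic v) (pol_monic w) h)

end pol

variable {F : Type u} [Field F] [CharP F 2] [Fintype F]

theorem card_good {n : ℕ} (hn : 2 ≤ n) (ε : ℤ) (hε : ε = 1 ∨ ε = -1) :
    ∃ A : Finset (Fin n → F), Fintype.card F ^ n ≤ 2 * A.card ∧
      ∀ v ∈ A, (pol v).coeff 0 = 0 ∨ psi ((pol v).coeff 1 / (pol v).coeff 0) = ε := by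
  classical
  let i0 : Fin n := ⟨0, by omega⟩
  let i1 : Fin n := ⟨1, by omega⟩
  have h01 : i0 ≠ i1 := by
    intro h
    have := congrArg Fin.val h
    simp [i0, i1] at this
  let A : ℤ → Finset (Fin n → F) := fun ε => Finset.univ.filter fun v => v i0 = 0 ∨ psi (v i1 / v i0) = ε
  obtain ⟨c, hc⟩ := exists_not_isAS (F := F)
  let σ : (Fin n → F) → (Fin n → F) := fun v => Function.update v i1 (v i1 + c * v i0)
  have hσ0 : ∀ v, σ v i0 = v i0 := fun v => Function.update_of_ne h01 _ _
  have hσ1 : ∀ v, σ v i1 = v i1 + c * v i0 := fun v => Function.update_self _ _ _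
  have hσσ : Function.Involutive σ := by
    intro v
    funext j
    by_cases hj : j = i1
    · subst hj
      rw [hσ1, hσ1, hσ0]
      linear_combination c * v i0 * two_eq_zero' (F := F)
    · simp only [σ]
      rw [Function.update_of_ne hj, Function.update_of_ne hj]
  have hmap : ∀ ε v, v ∈ A ε → σ v ∈ A (-ε) := by
    intro ε v hv
    simp only [A, Finset.mem_filter, Finset.mem_univ, true_and] at hv ⊢
    rw [hσ0, hσ1]
    by_cases h0 : v i0 = 0
    · exact Or.inl h0
    · right
      rcases hv with hv | hv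
      · exact absurd hv h0
      · have : (v i1 + c * v i0) / v i0 = v i1 / v i0 + c := by field_simp
        rw [this, psi_add, hv, psi_of_not_isAS hc]
        ring
  have hle : ∀ ε, (A ε).card ≤ (A (-ε)).card := fun ε =>
    Finset.card_le_card_of_injOn σ (hmap ε) (hσσ.injective.injOn)
  have hunion : (Finset.univ : Finset (Fin n → F)) ⊆ A ε ∪ A (-ε) := by
    intro v _
    rw [Finset.mem_union]
    simp only [A, Finset.mem_filter, Finset.mem_univ, true_and]
    rcases hε with rfl | rfl <;> rcases psi_cases (v i1 / v i0) with h | h <;> simp [h]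
  have h1 := Finset.card_le_card hunion
  have h2 := h1.trans (Finset.card_union_le _ _)
  have h3 := hle (-ε)
  rw [neg_neg] at h3
  rw [Finset.card_univ, Fintype.card_fun, Fintype.card_fin] at h2
  refine ⟨A ε, by omega, ?_⟩
  intro v hv
  simp only [A, Finset.mem_filter, Finset.mem_univ, true_and] at hv
  have e0 : (pol v).coeff 0 = v i0 := coeff_pol v i0
  have e1 : (pol v).coeff 1 = v i1 := coeff_pol v i1
  rw [e0, e1]
  exact hv

theorem card_le_two_mul {ι : Type} [Fintype ι] [DecidableEq ι] (Q : (ι → F) → F) {n : ℕ} (hn : 2 ≤ n)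
    {ε : ℤ} (hε : ε = 1 ∨ ε = -1)
    (hall : ∀ h : F[X], h.Monic → h.natDegree = n →
      (h.coeff 0 = 0 ∨ psi (h.coeff 1 / h.coeff 0) = ε) → Rz Q (h ^ 2)) :
    Fintype.card F ^ n ≤ 2 * Nat.card (ConjClasses (isometryGroup F Q)) := by
  classical
  obtain ⟨A, hA, hA'⟩ := card_good (F := F) hn ε hε
  have h1 := card_le_of_rz Q (A.image fun v => pol v ^ 2) (by
    intro p hp
    obtain ⟨v, hv, rfl⟩ := Finset.mem_image.1 hp
    exact hall _ (pol_monic v) (natDegree_pol v) (hA' v hv))
  rw [Finset.card_image_of_injective _ (pol_sq_injective n)] at h1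
  omega

/-- **E3** -/
theorem lower_orth_even {F : Type*} [Field F] [Fintype F] (heven : Even (Fintype.card F)) (n : ℕ)
    (hn : 2 ≤ n) (a b : F)
    (hab : ∀ z₁ z₂ : F, z₁ ^ 2 + a * z₁ * z₂ + b * z₂ ^ 2 = 0 → z₁ = 0 ∧ z₂ = 0) :
    Fintype.card F ^ n ≤ 2 * Nat.card (ConjClasses ↥(Cfsg.isometryGroup F (Cfsg.quadFormPlus n F))) ∧
    Fintype.card F ^ n ≤
      2 * Nat.card (ConjClasses ↥(Cfsg.isometryGroup F (Cfsg.quadFormMinus (n - 1) F a b))) := by
  classical
  have : CharP F 2 := by
    obtain ⟨p, hp⟩ := CharP.exists F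
    have hp' : p.Prime := (CharP.char_is_prime_or_zero F p).resolve_right (CharP.char_ne_zero_of_finite F p)
    obtain ⟨m, _, hm⟩ := FiniteField.card F p
    have h2 : 2 ∣ p := by
      have : 2 ∣ p ^ (m : ℕ) := by rw [← hm]; exact heven.two_dvd
      exact Nat.prime_two.dvd_of_dvd_pow this
    have h3 : p = 2 := ((Nat.prime_dvd_prime_iff_eq Nat.prime_two hp').1 h2).symm
    exact h3 ▸ hp
  refine ⟨?_, ?_⟩
  · refine card_le_two_mul (quadFormPlus n F) hn (ε := 1) (Or.inl rfl) ?_
    intro h hh hd hs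
    refine rz_of_recog (quadFormPlus n F) (Or.inl rfl) ?_ (by simp; omega) hab hh hd (by omega) hs
    intro V _ _ _ _ hV Q' hQ' hg
    exact exists_plus (by omega) hV Q' hQ' (by rw [hg, one_mul])
  · refine card_le_two_mul (quadFormMinus (n - 1) F a b) hn (ε := -1) (Or.inr rfl) ?_
    intro h hh hd hs
    refine rz_of_recog (quadFormMinus (n - 1) F a b) (Or.inr rfl) ?_ (by simp; omega) hab hh hd
      (by omega) hs
    intro V _ _ _ _ hV Q' hQ' hg
    exact exists_minus (by omega) hV Q' hQ' (by rw [hg, neg_one_mul]) hab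

end Cfsg.Agent.H174.CN
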