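import Cfsg.Agent.H174.CNChar

/-!
Characteristic two: the Gauss sum of `Qh` is `q^n psi (h_1 / h_0)`.
-/

set_option autoImplicit false

namespace Cfsg.Agent.H174.CN

open Polynomial Module

variable {F : Type*} [Field F] [CharP F 2]

theorem exists_sqrt [Finite F] (c : F) : ∃ d : F, d ^ 2 = c := by
  have := Fintype.ofFinite F
  obtain ⟨d, hd⟩ := FiniteField.isSquare_of_char_two (CharP.ringChar_of_prime_eq_zero
        Nat.prime_two (CharP.cast_eq_zero F 2)) c
  exact ⟨d, by rw [hd, sq]⟩

/-- even and odd part -/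
theorem exists_even_odd [Finite F] (P : F[X]) : ∃ e o : F[X], P = e ^ 2 + X * o ^ 2 := by
  induction P using Polynomial.induction_on' with
  | add p q hp hq =>
    obtain ⟨e, o, rfl⟩ := hp
    obtain ⟨e', o', rfl⟩ := hq
    refine ⟨e + e', o + o', ?_⟩
    rw [CharTwo.add_sq, CharTwo.add_sq]
    ring
  | monomial k c =>
    obtain ⟨d, rfl⟩ := exists_sqrt c
    rcases Nat.even_or_odd' k with ⟨j, rfl | rfl⟩
    · refine ⟨monomial j d, 0, ?_⟩
      rw [monomial_pow]
      simp [mul_comm]
    · refine ⟨0, monomial j d, ?_⟩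
      rw [monomial_pow, X_mul_monomial]
      simp [mul_comm]

theorem coeff_one_sq (e : F[X]) : (e ^ 2).coeff 1 = 0 := by
  rw [sq, coeff_mul, Finset.Nat.antidiagonal_succ]
  simp
  rw [mul_comm]
  exact CharTwo.add_self_eq_zero _

omit [CharP F 2] in
theorem natDegree_odd_le {P e o : F[X]} (h : P = e ^ 2 + X * o ^ 2) (ho : o ≠ 0) :
    2 * o.natDegree + 1 ≤ P.natDegree := by
  have h1 : (X * o ^ 2).natDegree = 2 * o.natDegree + 1 := by
    rw [natDegree_X_mul (pow_ne_zero _ ho), natDegree_pow]
  by_cases he : (e ^ 2).natDegree < (X * o ^ 2).natDegree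
  · rw [h, natDegree_add_eq_right_of_natDegree_lt he, h1]
  · have h2 : (X * o ^ 2).natDegree < (e ^ 2).natDegree := by
      rw [natDegree_pow] at he ⊢
      rw [h1] at he ⊢
      omega
    rw [h, natDegree_add_eq_left_of_natDegree_lt h2]
    omega

variable {h : F[X]} (hh : h.Monic)

theorem tau_sq (hn : 0 < h.natDegree) {e o : F[X]} (heo : h = e ^ 2 + X * o ^ 2) (y : AdjoinRoot h) :
    tau hh (y * y) = (tau hh (AdjoinRoot.mk h o * y)) ^ 2 := by
  obtain ⟨P, rfl⟩ := AdjoinRoot.mk_surjective y
  rw [← map_mul, ← map_mul]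
  set n := h.natDegree with hndef
  set r := (o * P) %ₘ h with hr
  set t := (e * P) %ₘ h with ht
  set A := (o * P) /ₘ h with hA
  set B := (e * P) /ₘ h with hB
  have h1 : r + h * A = o * P := modByMonic_add_div _ _
  have h2 : t + h * B = e * P := modByMonic_add_div _ _
  have hne : h ≠ 1 := by
    intro h0
    rw [h0, natDegree_one] at hndef
    omega
  have hrd : r.natDegree ≤ n - 1 := by
    have : r.natDegree < n := natDegree_modByMonic_lt (o * P) hh hne
    omega
  have htd : t.natDegree ≤ n - 1 := by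
    have : t.natDegree < n := natDegree_modByMonic_lt (e * P) hh hne
    omega
  set w := P * P - h * (B ^ 2 + X * A ^ 2) with hw
  have h2' : (2 : F[X]) = 0 := by
    have : (2 : F) = 0 := CharTwo.two_eq_zero
    rw [← C_ofNat, this, C_0]
  have h3 : h * w = t ^ 2 + X * r ^ 2 := by
    have h4 : h * (P * P) = (e * P) ^ 2 + X * (o * P) ^ 2 := by
      conv_lhs => rw [heo]
      ring
    rw [hw, mul_sub, h4, ← h1, ← h2]
    linear_combination (h * B * t + X * r * h * A) * h2'
  have hd2 : (t ^ 2 + X * r ^ 2).natDegree ≤ 2 * n - 1 := by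
    refine (natDegree_add_le _ _).trans (max_le ?_ ?_)
    · rw [natDegree_pow]; omega
    · refine (natDegree_mul_le).trans ?_
      rw [natDegree_pow, natDegree_X]
      omega
  have hwd : w.natDegree ≤ n - 1 := by
    by_cases hw0 : w = 0
    · rw [hw0]; simp
    · have h5 := congrArg natDegree h3
      rw [hh.natDegree_mul' hw0] at h5
      omega
  have hwmod : (P * P) %ₘ h = w := by
    have h6 : P * P = w + h * (B ^ 2 + X * A ^ 2) := by rw [hw]; ring
    rw [h6, add_modByMonic, self_mul_modByMonic hh, add_zero, (modByMonic_eq_self_iff hh).2]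
    apply degree_lt_degree
    omega
  rw [tau_mk, tau_mk, hwmod]
  have h7 := coeff_mul_add_eq_of_natDegree_le (f := h) (g := w) (le_refl n) hwd
  have h8 : h.coeff n = 1 := hh
  rw [h8, one_mul] at h7
  rw [← h7, h3, coeff_add]
  have h9 : (t ^ 2).coeff (n + (n - 1)) = 0 := by
    apply coeff_eq_zero_of_natDegree_lt
    rw [natDegree_pow]
    omega
  have h10 : n + (n - 1) = (n - 1) + (n - 1) + 1 := by omega
  rw [h9, zero_add, h10, coeff_X_mul, sq, coeff_mul_add_eq_of_natDegree_le hrd hrd, ← sq]

theorem tau_div (hn : 0 < h.natDegree) (h0 : h.coeff 0 ≠ 0) {P : F[X]} (hP : P.natDegree < h.natDegree)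
    {z : AdjoinRoot h} (hz : AdjoinRoot.root h * z = AdjoinRoot.mk h P) :
    tau hh z = P.coeff 0 / h.coeff 0 := by
  have hs : IsUnit (AdjoinRoot.root h) := by
    have := isUnit_root_sub (h := h) (c := 0) (by rwa [← coeff_zero_eq_eval_zero])
    rwa [map_zero, sub_zero] at this
  have h1 : z = AdjoinRoot.mk h (P.divX - C (P.coeff 0 / h.coeff 0) * h.divX) := by
    apply hs.mul_left_cancel
    rw [hz, ← AdjoinRoot.mk_X, ← map_mul]
    have h2 : P = X * (P.divX - C (P.coeff 0 / h.coeff 0) * h.divX) +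
        C (P.coeff 0 / h.coeff 0) * h := by
      have h3 := divX_mul_X_add P
      have h4 := divX_mul_X_add h
      have h5 : (C (P.coeff 0) : F[X]) = C (P.coeff 0 / h.coeff 0) * C (h.coeff 0) := by
        rw [← C_mul, div_mul_cancel₀ _ h0]
      linear_combination -h3 + C (P.coeff 0 / h.coeff 0) * h4 + h5
    conv_lhs => rw [h2]
    rw [map_add, map_mul (AdjoinRoot.mk h) (C _) h, AdjoinRoot.mk_self, mul_zero, add_zero]
  rw [h1, tau_mk_of_degree_lt]
  · rw [coeff_sub, coeff_C_mul, coeff_divX, coeff_divX]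
    have h5 : h.natDegree - 1 + 1 = h.natDegree := by omega
    rw [h5, coeff_eq_zero_of_natDegree_lt hP, zero_sub, hh.coeff_natDegree, mul_one]
    exact CharTwo.neg_eq _
  · apply degree_lt_degree
    refine lt_of_le_of_lt (natDegree_sub_le _ _) (max_lt ?_ ?_)
    · rw [natDegree_divX_eq_natDegree_tsub_one]; omega
    · refine lt_of_le_of_lt (natDegree_C_mul_le _ _) ?_
      rw [natDegree_divX_eq_natDegree_tsub_one]; omega

theorem gsum_Qh [Finite F] [Fintype (AdjoinRoot h)] (hn : 0 < h.natDegree) (h0 : h.coeff 0 ≠ 0) :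
    gsum (Qh hh) = (Fintype.card (AdjoinRoot h) : ℤ) * psi (h.coeff 1 / h.coeff 0) := by
  classical
  obtain ⟨e, o, heo⟩ := exists_even_odd h
  have hs : IsUnit (AdjoinRoot.root h) := by
    have := isUnit_root_sub (h := h) (c := 0) (by rwa [← coeff_zero_eq_eval_zero])
    rwa [map_zero, sub_zero] at this
  obtain ⟨si, hsi⟩ := hs.exists_right_inv
  set s := AdjoinRoot.root h with hsdef
  set O := AdjoinRoot.mk h o with hO
  have h2' : (2 : AdjoinRoot h) = 0 := by
    have : (2 : F) = 0 := CharTwo.two_eq_zero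
    have h5 : (algebraMap F (AdjoinRoot h) 2) = 2 := map_ofNat _ 2
    rw [← h5, this, map_zero]
  have h1 : gsum (Qh hh) = ∑ x : AdjoinRoot h, ∑ y : AdjoinRoot h,
      psi (tau hh (x * x)) * psi (tau hh ((s * x + O) * y)) := by
    rw [gsum, ← Finset.univ_product_univ, Finset.sum_product]
    refine Finset.sum_congr rfl fun x _ => Finset.sum_congr rfl fun y _ => ?_
    rw [Qh_apply, map_add, map_add, psi_add, psi_add, tau_sq hh hn heo y, psi_sq, ← hsdef, ← hO,
      mul_assoc, ← psi_add, ← map_add]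
    congr 3
    ring
  have h3 : ∀ x : AdjoinRoot h, ∑ y : AdjoinRoot h,
      psi (tau hh (x * x)) * psi (tau hh ((s * x + O) * y)) =
      if x = si * O then (Fintype.card (AdjoinRoot h) : ℤ) * psi (tau hh (x * x)) else 0 := by
    intro x
    rw [← Finset.mul_sum]
    split_ifs with hx
    · have h4 : s * x + O = 0 := by
        rw [hx]
        linear_combination O * hsi + O * h2'
      rw [h4]
      simp [psi_zero, mul_comm]
    · have h4 : ((tau hh).comp (LinearMap.mulLeft F (s * x + O))) ≠ 0 := by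
        intro h5
        apply hx
        have h6 : s * x + O = 0 := by
          apply tau_nondeg hh
          intro y
          have := LinearMap.congr_fun h5 y
          simpa using this
        linear_combination si * h6 - x * hsi - si * O * h2'
      have h7 := sum_psi_linear _ h4
      have h8 : ∑ y, psi (tau hh ((s * x + O) * y)) =
          ∑ v, psi (((tau hh).comp (LinearMap.mulLeft F (s * x + O))) v) := rfl
      rw [h8, h7, mul_zero]
  rw [h1, Finset.sum_congr rfl fun x _ => h3 x, Finset.sum_ite_eq' Finset.univ (si * O),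
    if_pos (Finset.mem_univ _)]
  congr 1
  rw [tau_sq hh hn heo, psi_sq, ← hO]
  congr 1
  have h9 : s * (O * (si * O)) = AdjoinRoot.mk h (o ^ 2) := by
    rw [map_pow, ← hO]
    linear_combination O ^ 2 * hsi
  by_cases ho : o = 0
  · have hO0 : O = 0 := by rw [hO, ho, map_zero]
    rw [hO0, zero_mul, map_zero, heo, ho, coeff_add, coeff_one_sq]
    simp
  · rw [tau_div hh hn h0 ?_ h9]
    · congr 1
      conv_rhs => rw [heo]
      rw [coeff_add, coeff_one_sq, zero_add, show (1 : ℕ) = 0 + 1 from rfl, coeff_X_mul]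
    · rw [natDegree_pow]
      have := natDegree_odd_le heo ho
      omega

end Cfsg.Agent.H174.CN
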