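import Cfsg.Agent.H174.CNSign
import Cfsg.Agent.H174.CNCount

/-!
Characteristic two: nondegenerate quadratic forms are classified by their Gauss sums; each side
of the lower bound for the class numbers of `O^±(2n,q)`, `q` even.
-/

set_option autoImplicit false

namespace Cfsg.Agent.H174.CN

open Polynomial Module Cfsg

theorem nondeg_of {F V : Type*} [Field F] [AddCommGroup V] [Module F V] (Q : QuadraticForm F V)
    (hQ : ∀ v, (∀ w, QuadraticMap.polar Q v w = 0) → v = 0) :
    (QuadraticMap.polarBilin Q).Nondegenerate := by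
  refine ⟨fun v hv => hQ v fun w => hv w, fun v hv => hQ v fun w => ?_⟩
  rw [QuadraticMap.polar_comm]
  exact hv w

variable {F : Type*} [Field F] [CharP F 2]

theorem two_eq_zero' : (2 : F) = 0 := CharTwo.two_eq_zero

/-- the polar form of the minus form is nondegenerate -/
theorem minusQ_nondeg [Finite F] (m : ℕ) {a b : F}
    (hab : ∀ z₁ z₂ : F, z₁ ^ 2 + a * z₁ * z₂ + b * z₂ ^ 2 = 0 → z₁ = 0 ∧ z₂ = 0) :
    (QuadraticMap.polarBilin (minusQ m F a b)).Nondegenerate := by
  classical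
  have ha : a ≠ 0 := by
    rintro rfl
    obtain ⟨d, hd⟩ := exists_sqrt b
    have h := hab d 1 (by
      rw [← hd]
      linear_combination d ^ 2 * two_eq_zero' (F := F))
    exact one_ne_zero h.2
  apply nondeg_of
  intro u h
  have h2 : (2 : F) = 0 := two_eq_zero'
  funext i
  rcases i with (i | i) | i
  · have := h (Pi.single (.inl (.inr i)) 1)
    rw [polar_minusQ] at this
    simpa [minusPolar, Pi.single_apply] using this
  · have := h (Pi.single (.inl (.inl i)) 1)
    rw [polar_minusQ] at this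
    simpa [minusPolar, Pi.single_apply] using this
  · fin_cases i
    · have := h (Pi.single (.inr 1) 1)
      rw [polar_minusQ] at this
      simpa [minusPolar, Pi.single_apply, h2, ha] using this
    · have := h (Pi.single (.inr 0) 1)
      rw [polar_minusQ] at this
      simpa [minusPolar, Pi.single_apply, h2, ha] using this

omit [CharP F 2] in
theorem aniso_of {ζ : F} [Finite F] (hζ : ∀ t : F, t ^ 2 + t + ζ ≠ 0) :
    ∀ z₁ z₂ : F, z₁ ^ 2 + 1 * z₁ * z₂ + ζ * z₂ ^ 2 = 0 → z₁ = 0 ∧ z₂ = 0 := by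
  intro x y hxy
  by_cases hy : y = 0
  · subst hy
    simp at hxy
    exact ⟨hxy, rfl⟩
  · exfalso
    apply hζ (x / y)
    field_simp
    linear_combination hxy

theorem not_isAS_of {ζ : F} (hζ : ∀ t : F, t ^ 2 + t + ζ ≠ 0) : ¬ IsAS ζ := by
  rintro ⟨w, hw⟩
  apply hζ w
  rw [hw]
  exact CharTwo.add_self_eq_zero ζ

theorem minus_congr (m : ℕ) [Finite F] {ζ ζ' : F} (h1 : ¬ IsAS ζ) (h2 : ¬ IsAS ζ') :
    ∃ e : ((Fin m ⊕ Fin m) ⊕ Fin 2 → F) ≃ₗ[F] ((Fin m ⊕ Fin m) ⊕ Fin 2 → F),
      ∀ v, quadFormMinus m F 1 ζ v = quadFormMinus m F 1 ζ' (e v) := by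
  obtain ⟨c, hc⟩ : IsAS (ζ + ζ') := by
    rw [isAS_add_iff]
    simp [h1, h2]
  let f : ((Fin m ⊕ Fin m) ⊕ Fin 2 → F) → ((Fin m ⊕ Fin m) ⊕ Fin 2 → F) := fun v i =>
    match i with
    | .inl j => v (.inl j)
    | .inr 0 => v (.inr 0) + c * v (.inr 1)
    | .inr 1 => v (.inr 1)
  have hf : ∀ v, f (f v) = v := by
    intro v
    funext i
    rcases i with j | j
    · rfl
    · fin_cases j
      · change v (.inr 0) + c * v (.inr 1) + c * v (.inr 1) = v (.inr 0)
        linear_combination c * v (.inr 1) * two_eq_zero' (F := F)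
      · rfl
  let e : ((Fin m ⊕ Fin m) ⊕ Fin 2 → F) ≃ₗ[F] ((Fin m ⊕ Fin m) ⊕ Fin 2 → F) :=
    { toFun := f
      invFun := f
      left_inv := hf
      right_inv := hf
      map_add' := by
        intro u v
        funext i
        rcases i with j | j
        · rfl
        · fin_cases j
          · change (u (.inr 0) + v (.inr 0)) + c * (u (.inr 1) + v (.inr 1)) =
              (u (.inr 0) + c * u (.inr 1)) + (v (.inr 0) + c * v (.inr 1))
            ring
          · rfl
      map_smul' := by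
        intro a v
        funext i
        rcases i with j | j
        · rfl
        · fin_cases j
          · change a * v (.inr 0) + c * (a * v (.inr 1)) = a * (v (.inr 0) + c * v (.inr 1))
            ring
          · rfl }
  refine ⟨e, fun v => ?_⟩
  have h3 : quadFormMinus m F 1 ζ' (e v) = (∑ i : Fin m, v (.inl (.inl i)) * v (.inl (.inr i))) +
    ((v (.inr 0) + c * v (.inr 1)) ^ 2 + 1 * (v (.inr 0) + c * v (.inr 1)) * v (.inr 1) +
      ζ' * v (.inr 1) ^ 2) := rfl
  rw [h3, quadFormMinus]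
  have h4 : ζ' = c ^ 2 + c + ζ := by
    rw [hc]
    linear_combination -ζ * two_eq_zero' (F := F)
  rw [h4]
  linear_combination (-c * v (.inr 0) * v (.inr 1) - c ^ 2 * v (.inr 1) ^ 2 - c * v (.inr 1) ^ 2) *
    two_eq_zero' (F := F)

variable [Fintype F]

omit [CharP F 2] in
theorem card_pow_pos (m : ℕ) : 0 < (Fintype.card F : ℤ) ^ m := by
  have : 0 < Fintype.card F := Fintype.card_pos
  positivity

theorem exists_plus {V : Type*} [AddCommGroup V] [Module F V] [FiniteDimensional F V] [Fintype V]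
    {m : ℕ} (hm : 1 ≤ m) (hV : finrank F V = 2 * m) (Q : QuadraticForm F V)
    (hQ : (QuadraticMap.polarBilin Q).Nondegenerate) (hg : gsum Q = (Fintype.card F : ℤ) ^ m) :
    ∃ e : V ≃ₗ[F] (Fin m ⊕ Fin m → F), ∀ v, Q v = quadFormPlus m F (e v) := by
  rcases exists_std hm hV Q hQ with h | ⟨ζ, e, hζ, he⟩
  · exact h
  · exfalso
    rw [gsum_congr e.toEquiv he, gsum_minus _ (aniso_of hζ), Nat.sub_add_cancel hm] at hg
    have := card_pow_pos (F := F) m
    linarith

theorem exists_minus {V : Type*} [AddCommGroup V] [Module F V] [FiniteDimensional F V] [Fintype V]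
    {m : ℕ} (hm : 1 ≤ m) (hV : finrank F V = 2 * m) (Q : QuadraticForm F V)
    (hQ : (QuadraticMap.polarBilin Q).Nondegenerate) (hg : gsum Q = -(Fintype.card F : ℤ) ^ m)
    {a b : F} (hab : ∀ z₁ z₂ : F, z₁ ^ 2 + a * z₁ * z₂ + b * z₂ ^ 2 = 0 → z₁ = 0 ∧ z₂ = 0) :
    ∃ e : V ≃ₗ[F] ((Fin (m - 1) ⊕ Fin (m - 1)) ⊕ Fin 2 → F),
      ∀ v, Q v = quadFormMinus (m - 1) F a b (e v) := by
  have hpos := card_pow_pos (F := F) m
  rcases exists_std hm hV Q hQ with ⟨e, he⟩ | ⟨ζ, e, hζ, he⟩
  · exfalso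
    rw [gsum_congr e.toEquiv he, gsum_plus] at hg
    linarith
  · have hfr : finrank F ((Fin (m - 1) ⊕ Fin (m - 1)) ⊕ Fin 2 → F) = 2 * m := by
      rw [finrank_fintype_fun_eq_card]
      simp
      omega
    rcases exists_std hm hfr (minusQ (m - 1) F a b) (minusQ_nondeg (m - 1) hab) with
      ⟨e', he'⟩ | ⟨ζ', e', hζ', he'⟩
    · exfalso
      have h1 := gsum_minus (m - 1) hab
      have h2 : gsum (quadFormMinus (m - 1) F a b) = gsum (quadFormPlus m F) :=
        gsum_congr e'.toEquiv he'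
      rw [h2, gsum_plus, Nat.sub_add_cancel hm] at h1
      linarith
    · obtain ⟨e'', he''⟩ := minus_congr (m - 1) (not_isAS_of hζ) (not_isAS_of hζ')
      refine ⟨(e.trans e'').trans e'.symm, fun v => ?_⟩
      rw [he, he'']
      have h3 := he' (e'.symm (e'' (e v)))
      rw [e'.apply_symm_apply, minusQ_apply] at h3
      rw [← h3]
      rfl

end Cfsg.Agent.H174.CN
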