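import Mathlib
import Cfsg.Prelude.Def_JordanBlocks
import Cfsg.Agent.H174.JordanMatrix

/-!
The centralizer of `jordanTypeMatrix d F` in the matrix algebra and in `GL`.
-/

set_option autoImplicit false

namespace Cfsg.Agent.H174

open Module

variable {F : Type*} [Field F]

theorem sum_jordan_row {t : ℕ} (d : Fin t → ℕ) (c : ((k : Fin t) × Fin (d k)) → F) (k : Fin t)
    (i : Fin (d k)) : ∑ q, Cfsg.jordanTypeMatrix d F ⟨k, i⟩ q * c q =
      c ⟨k, i⟩ + if h : 0 < (i : ℕ) then c ⟨k, ⟨i - 1, by omega⟩⟩ else 0 := by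
  classical
  rw [Fintype.sum_sigma, Finset.sum_eq_single k]
  · have h1 : ∀ j : Fin (d k), Cfsg.jordanTypeMatrix d F ⟨k, i⟩ ⟨k, j⟩ =
        (if i = j then 1 else 0) + (if (i : ℕ) = (j : ℕ) + 1 then 1 else 0) := by
      intro j
      simp only [Cfsg.jordanTypeMatrix, Matrix.blockDiagonal'_apply_eq, Cfsg.jordanBlock, Matrix.of_apply]
      by_cases h : i = j
      · subst h
        simp
      · rw [if_neg (fun h' => h (Fin.ext h')), if_neg h, zero_add]
    simp_rw [h1, add_mul]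
    rw [Finset.sum_add_distrib]
    congr 1
    · simp
    · split_ifs with h
      · rw [Finset.sum_eq_single ⟨i - 1, by omega⟩]
        · rw [if_pos (by simp; omega), one_mul]
        · intro j _ hj
          rw [if_neg, zero_mul]
          intro h'
          exact hj (Fin.ext (by simp; omega))
        · intro h; exact absurd (Finset.mem_univ _) h
      · refine Finset.sum_eq_zero fun j _ => ?_
        rw [if_neg, zero_mul]
        intro h'
        omega
  · intro l _ hl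
    refine Finset.sum_eq_zero fun j _ => ?_
    simp only [Cfsg.jordanTypeMatrix]
    rw [Matrix.blockDiagonal'_apply_ne _ _ _ hl.symm, zero_mul]
  · intro h; exact absurd (Finset.mem_univ _) h

/-- entries of `M`, extended by zero -/
def ent {t : ℕ} {d : Fin t → ℕ} (M : Matrix ((k : Fin t) × Fin (d k)) ((k : Fin t) × Fin (d k)) F)
    (l k : Fin t) (a b : ℕ) : F :=
  if h : a < d l ∧ b < d k then M ⟨l, ⟨a, h.1⟩⟩ ⟨k, ⟨b, h.2⟩⟩ else 0

theorem ent_of {t : ℕ} {d : Fin t → ℕ} (M : Matrix ((k : Fin t) × Fin (d k)) ((k : Fin t) × Fin (d k)) F)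
    {l k : Fin t} {a b : ℕ} (ha : a < d l) (hb : b < d k) : ent M l k a b = M ⟨l, ⟨a, ha⟩⟩ ⟨k, ⟨b, hb⟩⟩ :=
  dif_pos ⟨ha, hb⟩

theorem ent_fin {t : ℕ} {d : Fin t → ℕ} (M : Matrix ((k : Fin t) × Fin (d k)) ((k : Fin t) × Fin (d k)) F)
    (l k : Fin t) (a : Fin (d l)) (b : Fin (d k)) : ent M l k a b = M ⟨l, a⟩ ⟨k, b⟩ :=
  dif_pos ⟨a.2, b.2⟩

theorem ent_right {t : ℕ} {d : Fin t → ℕ} (M : Matrix ((k : Fin t) × Fin (d k)) ((k : Fin t) × Fin (d k)) F)
    {l k : Fin t} {a b : ℕ} (hb : d k ≤ b) : ent M l k a b = 0 :=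
  dif_neg (by omega)

/-- the commutation relation -/
theorem comm_iff_step {t : ℕ} {d : Fin t → ℕ}
    (M : Matrix ((k : Fin t) × Fin (d k)) ((k : Fin t) × Fin (d k)) F) :
    M * Cfsg.jordanTypeMatrix d F = Cfsg.jordanTypeMatrix d F * M ↔
      ∀ l k a b, a < d l → b < d k →
        ent M l k a (b + 1) = if 0 < a then ent M l k (a - 1) b else 0 := by
  have hl : ∀ l k (a : Fin (d l)) (b : Fin (d k)), (M * Cfsg.jordanTypeMatrix d F) ⟨l, a⟩ ⟨k, b⟩ =
      M ⟨l, a⟩ ⟨k, b⟩ + ent M l k a (b + 1) := by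
    intro l k a b
    rw [Matrix.mul_apply]
    have h := sum_jordan (F := F) d (fun q => M ⟨l, a⟩ q) k b
    simp only [smul_eq_mul] at h
    simp_rw [mul_comm (M ⟨l, a⟩ _)]
    rw [h]
    congr 1
    by_cases hb : (b : ℕ) + 1 < d k
    · rw [dif_pos hb, ent_of M a.2 hb]
    · rw [dif_neg hb, ent_right M (by omega)]
  have hr : ∀ l k (a : Fin (d l)) (b : Fin (d k)), (Cfsg.jordanTypeMatrix d F * M) ⟨l, a⟩ ⟨k, b⟩ =
      M ⟨l, a⟩ ⟨k, b⟩ + if 0 < (a : ℕ) then ent M l k (a - 1) b else 0 := by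
    intro l k a b
    rw [Matrix.mul_apply, sum_jordan_row d (fun q => M q ⟨k, b⟩) l a]
    congr 1
    by_cases ha : 0 < (a : ℕ)
    · rw [dif_pos ha, if_pos ha, ent_of M (by omega) b.2]
    · rw [dif_neg ha, if_neg ha]
  constructor
  · intro h l k a b ha hb
    have h1 := congrFun (congrFun h ⟨l, ⟨a, ha⟩⟩) ⟨k, ⟨b, hb⟩⟩
    rw [hl, hr] at h1
    exact add_left_cancel h1
  · intro h
    ext ⟨l, a⟩ ⟨k, b⟩
    rw [hl, hr, h l k a b a.2 b.2]

theorem comm_iff {t : ℕ} {d : Fin t → ℕ}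
    (M : Matrix ((k : Fin t) × Fin (d k)) ((k : Fin t) × Fin (d k)) F) :
    M * Cfsg.jordanTypeMatrix d F = Cfsg.jordanTypeMatrix d F * M ↔
      ∀ l k a b, a < d l → b ≤ d k →
        ent M l k a b = if b ≤ a then ent M l k (a - b) 0 else 0 := by
  rw [comm_iff_step]
  constructor
  · intro h l k a b
    induction b generalizing a with
    | zero =>
      intro ha _
      simp
    | succ b ih =>
      intro ha hb
      rw [h l k a b ha (by omega)]
      by_cases ha0 : 0 < a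
      · rw [if_pos ha0, ih (a - 1) (by omega) (by omega)]
        by_cases hab : b ≤ a - 1
        · rw [if_pos hab, if_pos (by omega)]
          congr 1
          omega
        · rw [if_neg hab, if_neg (by omega)]
      · rw [if_neg ha0, if_neg (by omega)]
  · intro h l k a b ha hb
    rw [h l k a (b + 1) ha (by omega)]
    by_cases ha0 : 0 < a
    · rw [if_pos ha0, h l k (a - 1) b (by omega) (by omega)]
      by_cases hab : b ≤ a - 1
      · rw [if_pos hab, if_pos (by omega)]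
        congr 1
        omega
      · rw [if_neg hab, if_neg (by omega)]
    · rw [if_neg ha0, if_neg (by omega)]

/-- the free parameters of the centralizer -/
abbrev Par {t : ℕ} (d : Fin t → ℕ) : Type :=
  (l : Fin t) × (k : Fin t) × {s : Fin (d l) // d l ≤ (s : ℕ) + d k}

/-- the parameter `(l, k, s)` -/
def mkPar {t : ℕ} {d : Fin t → ℕ} (l k : Fin t) (s : ℕ) (h : s < d l) (h' : d l ≤ s + d k) : Par d :=
  ⟨l, k, ⟨⟨s, h⟩, h'⟩⟩

/-- the matrix with given parameters -/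
def mkMat {t : ℕ} {d : Fin t → ℕ} (φ : Par d → F) :
    Matrix ((k : Fin t) × Fin (d k)) ((k : Fin t) × Fin (d k)) F := fun p q =>
  if h : (q.2 : ℕ) ≤ p.2 ∧ d p.1 ≤ ((p.2 : ℕ) - q.2) + d q.1 then
    φ (mkPar p.1 q.1 ((p.2 : ℕ) - q.2) (by omega) h.2) else 0

theorem ent_mkMat {t : ℕ} {d : Fin t → ℕ} (φ : Par d → F) {l k : Fin t} {a b : ℕ} (ha : a < d l)
    (hb : b < d k) : ent (mkMat φ) l k a b =
      if h : b ≤ a ∧ d l ≤ (a - b) + d k then φ (mkPar l k (a - b) (by omega) h.2) else 0 := by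
  rw [ent_of _ ha hb]
  rfl

theorem mkMat_comm {t : ℕ} {d : Fin t → ℕ} (φ : Par d → F) :
    mkMat φ * Cfsg.jordanTypeMatrix d F = Cfsg.jordanTypeMatrix d F * mkMat φ := by
  rw [comm_iff_step]
  intro l k a b ha hb
  by_cases hb' : b + 1 < d k
  · rw [ent_mkMat φ ha hb']
    by_cases ha0 : 0 < a
    · rw [if_pos ha0, ent_mkMat φ (by omega) hb]
      by_cases h : b + 1 ≤ a ∧ d l ≤ (a - (b + 1)) + d k
      · rw [dif_pos h, dif_pos (by omega)]
        congr 2
        omega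
      · rw [dif_neg h, dif_neg (by omega)]
    · rw [if_neg ha0, dif_neg (by omega)]
  · rw [ent_right _ (by omega)]
    by_cases ha0 : 0 < a
    · rw [if_pos ha0, ent_mkMat φ (by omega) hb, dif_neg (by omega)]
    · rw [if_neg ha0]

/-- the parameters of a matrix -/
def toPar {t : ℕ} {d : Fin t → ℕ} (hd : ∀ k, 1 ≤ d k)
    (M : Matrix ((k : Fin t) × Fin (d k)) ((k : Fin t) × Fin (d k)) F) (p : Par d) : F :=
  M ⟨p.1, p.2.2.1⟩ ⟨p.2.1, ⟨0, hd _⟩⟩

omit [Field F] in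
theorem toPar_mkPar {t : ℕ} {d : Fin t → ℕ} (hd : ∀ k, 1 ≤ d k)
    (M : Matrix ((k : Fin t) × Fin (d k)) ((k : Fin t) × Fin (d k)) F) (l k : Fin t) (s : ℕ)
    (h : s < d l) (h' : d l ≤ s + d k) : toPar hd M (mkPar l k s h h') = M ⟨l, ⟨s, h⟩⟩ ⟨k, ⟨0, hd _⟩⟩ :=
  rfl

theorem mkMat_toPar {t : ℕ} {d : Fin t → ℕ} (hd : ∀ k, 1 ≤ d k)
    {M : Matrix ((k : Fin t) × Fin (d k)) ((k : Fin t) × Fin (d k)) F}
    (hM : M * Cfsg.jordanTypeMatrix d F = Cfsg.jordanTypeMatrix d F * M) : mkMat (toPar hd M) = M := by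
  ext ⟨l, a⟩ ⟨k, b⟩
  have h := (comm_iff M).1 hM
  rw [← ent_fin M l k a b, h l k a b a.2 b.2.le]
  simp only [mkMat, toPar_mkPar]
  by_cases hab : (b : ℕ) ≤ a
  · rw [if_pos hab]
    by_cases hc : d l ≤ ((a : ℕ) - b) + d k
    · rw [dif_pos ⟨hab, hc⟩, ent_of M (by omega) (hd _)]
    · rw [dif_neg (fun h => hc h.2)]
      have h2 := h l k ((a : ℕ) - b + d k) (d k) (by omega) le_rfl
      rw [ent_right M le_rfl, if_pos (by omega), Nat.add_sub_cancel] at h2
      exact h2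
  · rw [if_neg hab, dif_neg (fun h => hab h.1)]

theorem toPar_mkMat {t : ℕ} {d : Fin t → ℕ} (hd : ∀ k, 1 ≤ d k) (φ : Par d → F) :
    toPar hd (mkMat φ) = φ := by
  ext ⟨l, k, ⟨s, hs⟩⟩
  change (mkMat φ) ⟨l, s⟩ ⟨k, ⟨0, hd _⟩⟩ = _
  simp only [mkMat]
  rw [dif_pos ⟨Nat.zero_le _, by simpa using hs⟩]
  rfl

/-- the centralizer algebra is parametrized by `Par d → F` -/
def centEquiv {t : ℕ} {d : Fin t → ℕ} (hd : ∀ k, 1 ≤ d k) :
    {M : Matrix ((k : Fin t) × Fin (d k)) ((k : Fin t) × Fin (d k)) F //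
      M * Cfsg.jordanTypeMatrix d F = Cfsg.jordanTypeMatrix d F * M} ≃ (Par d → F) where
  toFun M := toPar hd M.1
  invFun φ := ⟨mkMat φ, mkMat_comm φ⟩
  left_inv M := Subtype.ext (mkMat_toPar hd M.2)
  right_inv φ := toPar_mkMat hd φ

/-- the diagonal blocks of a matrix -/
def blk {t : ℕ} {d : Fin t → ℕ} (hd : ∀ k, 1 ≤ d k)
    (M : Matrix ((k : Fin t) × Fin (d k)) ((k : Fin t) × Fin (d k)) F) (i : ℕ) :
    Matrix {k // d k = i} {k // d k = i} F := fun l k => M ⟨l.1, ⟨0, hd _⟩⟩ ⟨k.1, ⟨0, hd _⟩⟩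

/-- the ordering function for the block triangular form -/
def key {t : ℕ} {d : Fin t → ℕ} (p : (k : Fin t) × Fin (d k)) : ℕ ×ₗ ℕᵒᵈ :=
  toLex ((p.2 : ℕ), OrderDual.toDual (d p.1))

theorem blockTriangular {t : ℕ} {d : Fin t → ℕ} (hd : ∀ k, 1 ≤ d k)
    {M : Matrix ((k : Fin t) × Fin (d k)) ((k : Fin t) × Fin (d k)) F}
    (hM : M * Cfsg.jordanTypeMatrix d F = Cfsg.jordanTypeMatrix d F * M) :
    M.transpose.BlockTriangular key := by
  rintro ⟨l, a⟩ ⟨k, b⟩ h
  rw [Matrix.transpose_apply, ← mkMat_toPar hd hM]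
  simp only [mkMat]
  rw [dif_neg]
  rintro ⟨h1, h2⟩
  rw [key, key, Prod.Lex.toLex_lt_toLex] at h
  rcases h with h | ⟨h3, h4⟩
  · simp only at h
    omega
  · simp only [OrderDual.toDual_lt_toDual] at h3 h4
    omega

theorem isUnit_iff {t : ℕ} {d : Fin t → ℕ} (hd : ∀ k, 1 ≤ d k)
    {M : Matrix ((k : Fin t) × Fin (d k)) ((k : Fin t) × Fin (d k)) F}
    (hM : M * Cfsg.jordanTypeMatrix d F = Cfsg.jordanTypeMatrix d F * M) :
    IsUnit M ↔ ∀ i, IsUnit (blk hd M i) := by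
  classical
  have hb : ∀ (i : ℕ) (a : ℕ) (ha : a < i),
      (M.transpose.toSquareBlock key (toLex (a, OrderDual.toDual i))).det = (blk hd M i).det := by
    intro i a ha
    rw [← Matrix.det_transpose (blk hd M i)]
    let e : {k : Fin t // d k = i} ≃ {p : (k : Fin t) × Fin (d k) // key p = toLex (a, OrderDual.toDual i)} :=
      { toFun := fun k => ⟨⟨k.1, ⟨a, by rw [k.2]; exact ha⟩⟩,
          congrArg (fun x => toLex (a, OrderDual.toDual x)) k.2⟩
        invFun := fun p => ⟨p.1.1, by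
          have := p.2
          rw [key] at this
          exact OrderDual.toDual.injective (congrArg Prod.snd (toLex.injective this))⟩
        left_inv := fun k => rfl
        right_inv := by
          rintro ⟨⟨k, b⟩, h⟩
          apply Subtype.ext
          have h1 : (b : ℕ) = a := by
            rw [key] at h
            exact congrArg Prod.fst (toLex.injective h)
          subst h1
          rfl }
    rw [← Matrix.det_submatrix_equiv_self e]
    congr 1
    ext l k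
    change M ⟨k.1, ⟨a, _⟩⟩ ⟨l.1, ⟨a, _⟩⟩ = M ⟨k.1, ⟨0, _⟩⟩ ⟨l.1, ⟨0, _⟩⟩
    have h := (comm_iff M).1 hM k.1 l.1 a a (by rw [k.2]; exact ha) (by rw [l.2]; exact ha.le)
    rw [if_pos le_rfl, Nat.sub_self, ent_of M (by rw [k.2]; exact ha) (by rw [l.2]; exact ha),
      ent_of M (hd _) (hd _)] at h
    exact h
  rw [Matrix.isUnit_iff_isUnit_det, ← Matrix.det_transpose, (blockTriangular hd hM).det,
    isUnit_iff_ne_zero, Finset.prod_ne_zero_iff]
  constructor
  · intro h i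
    rw [Matrix.isUnit_iff_isUnit_det, isUnit_iff_ne_zero]
    by_cases hi : ∃ k, d k = i
    · obtain ⟨k, rfl⟩ := hi
      rw [← hb (d k) 0 (hd k)]
      apply h
      exact Finset.mem_image.2 ⟨⟨k, ⟨0, hd k⟩⟩, Finset.mem_univ _, rfl⟩
    · have : IsEmpty {k // d k = i} := ⟨fun k => hi ⟨k.1, k.2⟩⟩
      rw [Matrix.det_isEmpty]
      exact one_ne_zero
  · intro h a ha
    obtain ⟨⟨k, b⟩, _, rfl⟩ := Finset.mem_image.1 ha
    rw [key, hb (d k) b b.2]
    have := h (d k)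
    rw [Matrix.isUnit_iff_isUnit_det, isUnit_iff_ne_zero] at this
    exact this

end Cfsg.Agent.H174
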