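import Mathlib
import Cfsg.Prelude.Def_JordanBlocks
import Cfsg.Agent.H174.CentJordan

/-!
The order of the centralizer of a unipotent matrix in `GL` over a finite field.
-/

set_option autoImplicit false

namespace Cfsg.Agent.H174

open Module Matrix

variable {F : Type*} [Field F]

theorem card_GL_fintype (F : Type*) [Field F] [Fintype F] (ι : Type*) [Fintype ι] [DecidableEq ι] :
    Nat.card (GL ι F) = ∏ j : Fin (Fintype.card ι),
      (Fintype.card F ^ Fintype.card ι - Fintype.card F ^ (j : ℕ)) := by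
  rw [← Matrix.card_GL_field]
  exact Nat.card_congr (Units.mapEquiv
    (Matrix.reindexAlgEquiv F F (Fintype.equivFin ι)).toMulEquiv).toEquiv

/-- the leading parameters -/
def lead {t : ℕ} {d : Fin t → ℕ} (p : Par d) : Prop := d p.1 = d p.2.1 ∧ (p.2.2.1 : ℕ) = 0

theorem blk_mkMat {t : ℕ} {d : Fin t → ℕ} (hd : ∀ k, 1 ≤ d k) (φ : Par d → F) (i : ℕ)
    (l k : {k // d k = i}) : blk hd (mkMat φ) i l k =
      φ (mkPar l.1 k.1 0 (hd _) (by rw [l.2, k.2, zero_add])) := by
  simp only [blk, mkMat]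
  rw [dif_pos]
  refine ⟨Nat.zero_le _, ?_⟩
  rw [l.2, k.2]
  simp

open Classical in
/-- the parameters with given leading blocks -/
noncomputable def inv {t : ℕ} {d : Fin t → ℕ} {S : ℕ} (hS : ∀ k, d k < S)
    (x : (∀ i : Fin S, GL {k // d k = (i : ℕ)} F) × ({p : Par d // ¬ lead p} → F)) (p : Par d) : F :=
  if h : lead p then (x.1 ⟨d p.1, hS _⟩ : Matrix {k // d k = d p.1} {k // d k = d p.1} F)
    ⟨p.1, rfl⟩ ⟨p.2.1, h.1.symm⟩ else x.2 ⟨p, h⟩

theorem blk_inv {t : ℕ} {d : Fin t → ℕ} (hd : ∀ k, 1 ≤ d k) {S : ℕ} (hS : ∀ k, d k < S)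
    (x : (∀ i : Fin S, GL {k // d k = (i : ℕ)} F) × ({p : Par d // ¬ lead p} → F)) (i : Fin S) :
    blk hd (mkMat (inv hS x)) i = (x.1 i : Matrix _ _ F) := by
  obtain ⟨i, hi⟩ := i
  ext ⟨l, hl⟩ ⟨k, hk⟩
  simp only at hl hk
  subst hl
  rw [blk_mkMat, inv, dif_pos ⟨hk.symm, rfl⟩]
  rfl

/-- decomposition of the invertible elements of the centralizer -/
noncomputable def bigEquiv {t : ℕ} {d : Fin t → ℕ} (hd : ∀ k, 1 ≤ d k) {S : ℕ} (hS : ∀ k, d k < S) :
    {φ : Par d → F // ∀ i, IsUnit (blk hd (mkMat φ) i)} ≃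
      (∀ i : Fin S, GL {k // d k = (i : ℕ)} F) × ({p : Par d // ¬ lead p} → F) where
  toFun φ := (fun i => (φ.2 i).unit, fun p => φ.1 p.1)
  invFun x := ⟨inv hS x, by
    intro i
    by_cases hi : i < S
    · rw [blk_inv hd hS x ⟨i, hi⟩]
      exact Units.isUnit _
    · have : IsEmpty {k // d k = i} := ⟨fun k => hi (k.2 ▸ hS k.1)⟩
      exact isUnit_of_subsingleton _⟩
  left_inv φ := by
    apply Subtype.ext
    ext p
    change inv hS _ p = _
    by_cases h : lead p
    · rw [inv, dif_pos h]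
      change blk hd (mkMat φ.1) (d p.1) _ _ = _
      rw [blk_mkMat]
      obtain ⟨l, k, ⟨⟨s, hs⟩, hs'⟩⟩ := p
      have h2 : s = 0 := h.2
      subst h2
      rfl
    · rw [inv, dif_neg h]
  right_inv x := by
    ext1
    · funext i
      apply Units.ext
      exact blk_inv hd hS x i
    · funext p
      change inv hS x p.1 = _
      rw [inv, dif_neg p.2]

theorem card_cent (F : Type*) [Field F] [Fintype F] {t : ℕ} {d : Fin t → ℕ} (hd : ∀ k, 1 ≤ d k) {S : ℕ}
    (hS : ∀ k, d k < S) :
    Nat.card {g : GL ((k : Fin t) × Fin (d k)) F //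
      (g : Matrix ((k : Fin t) × Fin (d k)) ((k : Fin t) × Fin (d k)) F) * Cfsg.jordanTypeMatrix d F =
        Cfsg.jordanTypeMatrix d F * (g : Matrix ((k : Fin t) × Fin (d k)) ((k : Fin t) × Fin (d k)) F)} =
    (∏ i ∈ Finset.range S, ∏ j : Fin ((Finset.univ.filter (fun k : Fin t => d k = i)).card),
      (Fintype.card F ^ (Finset.univ.filter (fun k : Fin t => d k = i)).card - Fintype.card F ^ (j : ℕ))) *
    Fintype.card F ^ Nat.card {p : Par d // ¬ lead p} := by
  classical
  let e₁ : {g : GL ((k : Fin t) × Fin (d k)) F //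
      (g : Matrix ((k : Fin t) × Fin (d k)) ((k : Fin t) × Fin (d k)) F) * Cfsg.jordanTypeMatrix d F =
        Cfsg.jordanTypeMatrix d F * (g : Matrix ((k : Fin t) × Fin (d k)) ((k : Fin t) × Fin (d k)) F)} ≃
      {φ : Par d → F // ∀ i, IsUnit (blk hd (mkMat φ) i)} :=
    { toFun := fun g => ⟨toPar hd g.1.1, by
        rw [mkMat_toPar hd g.2]
        exact (isUnit_iff hd g.2).1 g.1.isUnit⟩
      invFun := fun φ => ⟨((isUnit_iff hd (mkMat_comm φ.1)).2 φ.2).unit, mkMat_comm φ.1⟩
      left_inv := fun g => Subtype.ext (Units.ext (mkMat_toPar hd g.2))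
      right_inv := fun φ => Subtype.ext (toPar_mkMat hd φ.1) }
  rw [Nat.card_congr (e₁.trans (bigEquiv hd hS)), Nat.card_prod, Nat.card_pi, Nat.card_fun]
  congr 1
  · rw [← Fin.prod_univ_eq_prod_range (fun i => ∏ j : Fin ((Finset.univ.filter
      (fun k : Fin t => d k = i)).card), (Fintype.card F ^ (Finset.univ.filter
        (fun k : Fin t => d k = i)).card - Fintype.card F ^ (j : ℕ))) S]
    refine Finset.prod_congr rfl fun i _ => ?_
    rw [card_GL_fintype, Fintype.card_subtype]
  · rw [Nat.card_eq_fintype_card]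

/-! ### counting the parameters -/

theorem card_par {t : ℕ} (d : Fin t → ℕ) (hd : ∀ k, 1 ≤ d k) :
    Nat.card {p : Par d // ¬ lead p} =
      ∑ l, ∑ k, (min (d l) (d k) - if d l = d k then 1 else 0) := by
  classical
  let e : {p : Par d // ¬ lead p} ≃ (l : Fin t) × (k : Fin t) ×
      {s : Fin (d l) // d l ≤ (s : ℕ) + d k ∧ ¬ (d l = d k ∧ (s : ℕ) = 0)} :=
    { toFun := fun p => ⟨p.1.1, p.1.2.1, ⟨p.1.2.2.1, p.1.2.2.2, p.2⟩⟩
      invFun := fun p => ⟨⟨p.1, p.2.1, ⟨p.2.2.1, p.2.2.2.1⟩⟩, p.2.2.2.2⟩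
      left_inv := fun p => rfl
      right_inv := fun p => rfl }
  rw [Nat.card_congr e, Nat.card_eq_fintype_card, Fintype.card_sigma]
  refine Finset.sum_congr rfl fun l _ => ?_
  rw [Fintype.card_sigma]
  refine Finset.sum_congr rfl fun k _ => ?_
  have h := hd l
  have h' := hd k
  rw [Fintype.card_subtype]
  by_cases hlk : d l = d k
  · rw [if_pos hlk, ← hlk, min_self]
    have : (Finset.univ.filter fun s : Fin (d l) => d l ≤ (s : ℕ) + d l ∧ ¬ (d l = d l ∧ (s : ℕ) = 0)) =
        Finset.univ.filter fun s : Fin (d l) => 1 ≤ (s : ℕ) := by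
      ext s
      simp only [Finset.mem_filter, Finset.mem_univ, true_and]
      omega
    rw [this, card_filter_le]
  · rw [if_neg hlk]
    have : (Finset.univ.filter fun s : Fin (d l) => d l ≤ (s : ℕ) + d k ∧ ¬ (d l = d k ∧ (s : ℕ) = 0)) =
        Finset.univ.filter fun s : Fin (d l) => d l - d k ≤ (s : ℕ) := by
      ext s
      simp only [Finset.mem_filter, Finset.mem_univ, true_and]
      omega
    rw [this, card_filter_le]
    omega

theorem sum_fiber {t : ℕ} (d : Fin t → ℕ) {S : ℕ} (hS : ∀ k, d k < S) (g : ℕ → ℕ) :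
    ∑ k, g (d k) = ∑ i ∈ Finset.range S, (Finset.univ.filter (fun k : Fin t => d k = i)).card * g i := by
  classical
  rw [← Finset.sum_fiberwise_of_maps_to (s := Finset.univ) (t := Finset.range S) (g := d)
    (fun k _ => Finset.mem_range.2 (hS k))]
  refine Finset.sum_congr rfl fun i _ => ?_
  rw [Finset.sum_congr rfl (fun k hk => by rw [(Finset.mem_filter.1 hk).2]), Finset.sum_const, smul_eq_mul]

theorem gamma_eq {t : ℕ} (d : Fin t → ℕ) {S : ℕ} (hS : ∀ k, d k < S) :
    ∑ l, ∑ k, (min (d l) (d k) - if d l = d k then 1 else 0) =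
      2 * (∑ i ∈ Finset.range S, ∑ j ∈ Finset.range S, if i < j then
        i * (Finset.univ.filter (fun k : Fin t => d k = i)).card *
          (Finset.univ.filter (fun k : Fin t => d k = j)).card else 0) +
      ∑ i ∈ Finset.range S, (i - 1) * (Finset.univ.filter (fun k : Fin t => d k = i)).card ^ 2 := by
  classical
  set a : ℕ → ℕ := fun i => (Finset.univ.filter (fun k : Fin t => d k = i)).card with ha
  have h1 : ∑ l, ∑ k, (min (d l) (d k) - if d l = d k then 1 else 0) =
      ∑ i ∈ Finset.range S, ∑ j ∈ Finset.range S, a i * a j * (min i j - if i = j then 1 else 0) := by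
    rw [sum_fiber d hS (fun x => ∑ k, (min x (d k) - if x = d k then 1 else 0))]
    refine Finset.sum_congr rfl fun i _ => ?_
    rw [sum_fiber d hS (fun y => (min i y - if i = y then 1 else 0)), Finset.mul_sum]
    refine Finset.sum_congr rfl fun j _ => ?_
    ring
  rw [h1]
  have h2 : ∀ i j, a i * a j * (min i j - if i = j then 1 else 0) =
      (if i < j then i * a i * a j else 0) + (if j < i then j * a j * a i else 0) +
        (if i = j then (i - 1) * a i ^ 2 else 0) := by
    intro i j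
    rcases lt_trichotomy i j with h | h | h
    · rw [if_pos h, if_neg (by omega), if_neg (by omega), if_neg (by omega), min_eq_left h.le]
      simp; ring
    · subst h
      simp; ring
    · rw [if_neg (by omega), if_pos h, if_neg (by omega), if_neg (by omega), min_eq_right h.le]
      simp; ring
  simp_rw [h2, Finset.sum_add_distrib]
  rw [two_mul]
  congr 1
  · congr 1
    rw [Finset.sum_comm]
  · refine Finset.sum_congr rfl fun i hi => ?_
    rw [Finset.sum_ite_eq, if_pos hi]

end Cfsg.Agent.H174
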