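import Mathlib
import Cfsg.Agent.H174.JordanReal

/-!
Base cases and pairs; the existence theorems.
-/

set_option autoImplicit false

namespace Cfsg.Agent.H174

open Module

universe u

theorem block_one_zero (F : Type u) [Field F] (h2 : (2 : F) ≠ 0) : Block F 1 0 := by
  refine ⟨F, inferInstance, inferInstance, LinearMap.mul F F, LinearEquiv.refl F F, 1, inferInstance,
    ⟨?_, ?_, ?_⟩, ?_, ?_, ?_⟩
  · intro x hx
    have := hx 1
    simp only [LinearMap.mul_apply', one_mul, mul_one] at this
    have h3 : 2 * x = 0 := by linear_combination this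
    exact (mul_eq_zero.1 h3).resolve_left h2
  · intro x y; rfl
  · intro _ x; rfl
  · simp
  · intro v
    simp [nil_apply]
  · simp only [pow_zero, Module.End.one_apply, LinearMap.mul_apply', mul_one]
    intro h
    apply h2
    linear_combination h

/-- the form `p.1 q.2` on the plane -/
def planeForm (F : Type u) [Field F] : (F × F) →ₗ[F] (F × F) →ₗ[F] F :=
  LinearMap.mk₂ F (fun p q => p.1 * q.2)
    (by intro a b c; simp; ring) (by intro a b c; simp; ring) (by intro a b c; simp; ring)
    (by intro a b c; simp; ring)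

theorem planeForm_sep (F : Type u) [Field F] {ε : F} (hε : ε ≠ 0) (x : F × F)
    (h : ∀ y, planeForm F x y + ε * planeForm F y x = 0) : x = 0 := by
  obtain ⟨a, b⟩ := x
  have h1 := h (0, 1)
  have h2 := h (1, 0)
  simp only [planeForm, LinearMap.mk₂_apply] at h1 h2
  have ha : a = 0 := by simpa using h1
  have hb : b = 0 := by simpa [hε] using h2
  rw [ha, hb]; rfl

/-- the transvection `(a,b) ↦ (a+b,b)` -/
def transvEquiv (F : Type u) [Field F] : (F × F) ≃ₗ[F] (F × F) where
  toFun p := (p.1 + p.2, p.2)
  invFun p := (p.1 - p.2, p.2)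
  left_inv p := by simp
  right_inv p := by simp
  map_add' p q := by ext <;> simp; ring
  map_smul' c p := by ext <;> simp; ring

theorem block_neg_one (F : Type u) [Field F] (h2 : (2 : F) ≠ 0) : Block F (-1) 1 := by
  have hε : (-1 : F) ≠ 1 := by
    intro h
    apply h2
    linear_combination -h
  have hnil : ∀ p : F × F, nil (transvEquiv F) p = (p.2, 0) := by
    rintro ⟨a, b⟩
    rw [nil_apply]
    change ((a + b, b) : F × F) - (a, b) = (b, 0)
    ext <;> simp
  refine ⟨F × F, inferInstance, inferInstance, planeForm F, transvEquiv F, (0, 1), inferInstance,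
    ⟨planeForm_sep F (by simp), ?_, ?_⟩, ?_, ?_, ?_⟩
  · rintro ⟨a, b⟩ ⟨a', b'⟩
    simp only [planeForm, LinearMap.mk₂_apply, transvEquiv, LinearEquiv.coe_mk, LinearMap.coe_mk,
      AddHom.coe_mk]
    ring
  · intro h; exact absurd h hε
  · simp
  · intro v
    rw [pow_succ, pow_one, Module.End.mul_apply, hnil, hnil]
    rfl
  · rw [pow_one, hnil]
    simp [planeForm]

theorem block_two (F : Type u) [Field F] (h2 : (2 : F) = 0) : Block F 1 1 := by
  have hnil : ∀ p : F × F, nil (LinearEquiv.prodComm F F F) p = (p.2 - p.1, p.1 - p.2) := by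
    rintro ⟨a, b⟩
    rw [nil_apply]
    rfl
  refine ⟨F × F, inferInstance, inferInstance, planeForm F, LinearEquiv.prodComm F F F, (1, 0),
    inferInstance, ⟨planeForm_sep F one_ne_zero, ?_, ?_⟩, ?_, ?_, ?_⟩
  · rintro ⟨a, b⟩ ⟨a', b'⟩
    simp only [planeForm, LinearMap.mk₂_apply, LinearEquiv.prodComm_apply, Prod.swap]
    ring
  · rintro _ ⟨a, b⟩
    simp only [planeForm, LinearMap.mk₂_apply, LinearEquiv.prodComm_apply, Prod.swap]
    ring
  · simp
  · rintro ⟨a, b⟩
    rw [pow_succ, pow_one, Module.End.mul_apply, hnil, hnil]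
    ext
    · simp only [Prod.fst_zero]
      linear_combination (a - b) * h2
    · simp only [Prod.snd_zero]
      linear_combination (b - a) * h2
  · rw [pow_one, hnil]
    simp [planeForm]

/-! ### pairs -/

/-- the hyperbolic form `φ(w')` on `W × W^*` -/
def hypForm {F : Type u} [Field F] (W : Type u) [AddCommGroup W] [Module F W] :
    (W × Dual F W) →ₗ[F] (W × Dual F W) →ₗ[F] F :=
  LinearMap.mk₂ F (fun p q => p.2 q.1)
    (by intro a b c; simp) (by intro a b c; simp) (by intro a b c; simp)
    (by intro a b c; simp)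

/-- the shift -/
def shift (F : Type u) [Field F] (n : ℕ) : (Fin n → F) →ₗ[F] (Fin n → F) where
  toFun v i := if h : 0 < (i : ℕ) then v ⟨i - 1, by omega⟩ else 0
  map_add' v w := by
    ext i
    by_cases h : 0 < (i : ℕ) <;> simp [h]
  map_smul' c v := by
    ext i
    by_cases h : 0 < (i : ℕ) <;> simp [h]

theorem shift_pow (F : Type u) [Field F] (n s : ℕ) (v : Fin n → F) (i : Fin n) :
    (shift F n ^ s) v i = if h : s ≤ (i : ℕ) then v ⟨i - s, by omega⟩ else 0 := by
  induction s generalizing v i with
  | zero => simp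
  | succ s ih =>
    rw [pow_succ, Module.End.mul_apply, ih]
    by_cases h : s + 1 ≤ (i : ℕ)
    · rw [dif_pos (by omega), dif_pos h]
      simp only [shift, LinearMap.coe_mk, AddHom.coe_mk]
      rw [dif_pos (by omega)]
      congr 1
    · rw [dif_neg h]
      by_cases h' : s ≤ (i : ℕ)
      · rw [dif_pos h']
        simp only [shift, LinearMap.coe_mk, AddHom.coe_mk]
        rw [dif_neg (by omega)]
      · rw [dif_neg h']

/-- a linear map `g` with a single Jordan block of size `i + 1` -/
theorem exists_single (F : Type u) [Field F] (i : ℕ) : ∃ (W : Type u) (_ : AddCommGroup W)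
    (_ : Module F W) (g : W ≃ₗ[F] W) (x : W), FiniteDimensional F W ∧ finrank F W = i + 1 ∧
      (nil g ^ i) x ≠ 0 ∧ ∀ v, (nil g ^ (i + 1)) v = 0 := by
  have hinj : Function.Injective
      ((LinearMap.id : (Fin (i + 1) → F) →ₗ[F] (Fin (i + 1) → F)) + shift F (i + 1)) := by
    rw [← LinearMap.ker_eq_bot, LinearMap.ker_eq_bot']
    intro v hv
    have h1 : ∀ j : ℕ, ∀ hj : j < i + 1, v ⟨j, hj⟩ = 0 := by
      intro j
      induction j with
      | zero =>
        intro hj
        have := congrFun hv ⟨0, hj⟩
        simpa [shift] using this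
      | succ j ih =>
        intro hj
        have := congrFun hv ⟨j + 1, hj⟩
        simpa [shift, ih (by omega)] using this
    ext j
    exact h1 j j.2
  have hnil : nil (LinearEquiv.ofInjectiveEndo _ hinj) = shift F (i + 1) := by
    refine LinearMap.ext fun v => ?_
    rw [nil_apply]
    change (v + shift F (i + 1) v) - v = _
    rw [add_sub_cancel_left]
  refine ⟨Fin (i + 1) → F, inferInstance, inferInstance, LinearEquiv.ofInjectiveEndo _ hinj,
    Pi.single 0 1, inferInstance, by simp, ?_, ?_⟩
  · rw [hnil]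
    intro h
    have := congrFun h (Fin.last i)
    rw [shift_pow, dif_pos (by simp)] at this
    have h0 : (⟨(Fin.last i : ℕ) - i, by simp⟩ : Fin (i + 1)) = 0 := by
      ext; simp
    rw [h0, Pi.single_eq_same] at this
    exact one_ne_zero this
  · intro v
    rw [hnil]
    ext j
    rw [shift_pow, dif_neg (by omega)]
    rfl

theorem nil_symm_pow_ne {F : Type u} [Field F] {W : Type u} [AddCommGroup W] [Module F W] (g : W ≃ₗ[F] W)
    (s : ℕ) (x : W) : (nil g.symm ^ s) x = 0 ↔ (nil g ^ s) x = 0 := by
  have h1 : nil g.symm = (- g.symm.toLinearMap : Module.End F W) * nil g := by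
    ext x
    simp [nil_apply]
  have h2 : Commute (- g.symm.toLinearMap : Module.End F W) (nil g) := by
    apply LinearMap.ext
    intro x
    simp [nil_apply]
  rw [h1, h2.mul_pow, Module.End.mul_apply]
  have h3 : Function.Injective (- g.symm.toLinearMap : Module.End F W) := by
    intro a b h
    simpa using h
  have h4 : Function.Injective ((- g.symm.toLinearMap : Module.End F W) ^ s) := by
    rw [Module.End.coe_pow]
    exact h3.iterate s
  constructor
  · intro h
    apply h4
    rw [h, map_zero]
  · intro h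
    rw [h, map_zero]

theorem nil_dual_pow {F : Type u} [Field F] {W : Type u} [AddCommGroup W] [Module F W] (g : W ≃ₗ[F] W)
    (s : ℕ) (φ : Dual F W) (x : W) : (nil g.symm.dualMap ^ s) φ x = φ ((nil g.symm ^ s) x) := by
  induction s generalizing φ x with
  | zero => rfl
  | succ s ih =>
    rw [pow_succ, Module.End.mul_apply, ih, pow_succ', Module.End.mul_apply]
    simp [nil_apply]

theorem realized_pair (F : Type u) [Field F] {ε : F} (hε : ε ≠ 0) (i : ℕ) :
    Realized F ε ({i + 1} + {i + 1}) := by
  obtain ⟨W, _, _, g, x, hfd, hV, hx, h0⟩ := exists_single F i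
  have h1 : (nil g.symm ^ i) x ≠ 0 := fun h => hx ((nil_symm_pow_ne g i x).1 h)
  obtain ⟨φ, hφ⟩ : ∃ φ : Dual F W, φ ((nil g.symm ^ i) x) ≠ 0 := by
    by_contra h
    push Not at h
    exact h1 ((Module.forall_dual_apply_eq_zero_iff F _).1 h)
  refine ⟨W × Dual F W, inferInstance, inferInstance, hypForm W, LinearEquiv.prodCongr g g.symm.dualMap,
    inferInstance, ⟨?_, ?_, ?_⟩, ?_⟩
  · rintro ⟨w, ψ⟩ h
    have ha : ψ = 0 := by
      ext1 w'
      simpa [hypForm] using h (w', 0)
    have hb : w = 0 := by
      apply (Module.forall_dual_apply_eq_zero_iff F w).1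
      intro θ
      simpa [hypForm, hε] using h (0, θ)
    rw [ha, hb]; rfl
  · rintro ⟨w, ψ⟩ ⟨w', ψ'⟩
    simp [hypForm]
  · rintro _ ⟨w, ψ⟩
    simp [hypForm]
  · have hn : nil (LinearEquiv.prodCongr g g.symm.dualMap) =
        (nil g).prodMap (nil (g.symm.dualMap)) := by
      refine LinearMap.ext fun p => ?_
      rfl
    rw [hn]
    apply IsJT.prod
    · exact IsJT.single hV x hx (h0 x)
    · refine IsJT.single (by rw [Subspace.dual_finrank_eq, hV]) φ ?_ ?_
      · intro h
        apply hφ
        rw [← nil_dual_pow, h]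
        rfl
      · ext1 y
        rw [nil_dual_pow, (nil_symm_pow_ne g (i + 1) y).2 (h0 y), map_zero]
        rfl

/-! ### summary -/

theorem block_orth (F : Type u) [Field F] (h2 : (2 : F) ≠ 0) (k : ℕ) : Block F 1 (2 * k) := by
  induction k with
  | zero => exact block_one_zero F h2
  | succ k ih => exact ih.step (by ring)

theorem block_symp (F : Type u) [Field F] (h2 : (2 : F) ≠ 0) (k : ℕ) : Block F (-1) (2 * k + 1) := by
  induction k with
  | zero => exact block_neg_one F h2
  | succ k ih =>
    have := ih.step (by ring)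
    rwa [show 2 * k + 1 + 2 = 2 * (k + 1) + 1 by ring] at this

theorem block_char_two (F : Type u) [Field F] (h2 : (2 : F) = 0) (k : ℕ) : Block F 1 (2 * k + 1) := by
  induction k with
  | zero => exact block_two F h2
  | succ k ih =>
    have := ih.step (by ring)
    rwa [show 2 * k + 1 + 2 = 2 * (k + 1) + 1 by ring] at this

theorem realized_of (F : Type u) [Field F] {ε : F} (hε : ε ≠ 0) (P : ℕ → Prop)
    (hP : ∀ j, 0 < j → P j → Realized F ε {j}) (s : Multiset ℕ) (h0 : ∀ j ∈ s, 0 < j)
    (h : ∀ j, ¬ P j → 0 < j → Even (s.count j)) : Realized F ε s := by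
  classical
  rw [← Multiset.toFinset_sum_count_nsmul_eq s]
  refine Finset.sum_induction _ (fun s => Realized F ε s) (fun _ _ => Realized.add)
    (Realized.zero F ε) ?_
  intro j hj
  have hj0 : 0 < j := h0 j (Multiset.mem_toFinset.1 hj)
  by_cases hjP : P j
  · exact (hP j hj0 hjP).nsmul _
  · obtain ⟨r, hr⟩ := h j hjP hj0
    rw [hr, add_nsmul, ← nsmul_add]
    obtain ⟨i, rfl⟩ : ∃ i, j = i + 1 := ⟨j - 1, by omega⟩
    exact (realized_pair F hε i).nsmul r

end Cfsg.Agent.H174
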