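import Cfsg.Agent.H174.RatTrace

/-!
Core contradiction for Theorem H (Sylow `p`-subgroups of rational solvable groups are normal for
`p ≥ 5`; used for S4162).
-/

set_option autoImplicit false

namespace Cfsg.Agent.H174.RatSyl

open Finset

/-! ### Small group facts -/

theorem mem_of_pow_mem {N : Type*} [Group N] (M : Subgroup N) {p i : ℕ} (hp : 1 < p)
    (hi : i.Coprime p) {a : N} (ha : a ^ p = 1) (h : a ^ i ∈ M) : a ∈ M := by
  obtain ⟨k, -, hk⟩ := Nat.exists_mul_mod_eq_one_of_coprime hi hp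
  have h1 : (a ^ i) ^ k = a := by
    rw [← pow_mul, ← Nat.mod_add_div (i * k) p, hk, pow_add, pow_mul, ha, one_pow, mul_one,
      pow_one]
  rw [← h1]
  exact M.pow_mem h k

theorem conj_step {N : Type*} [Group N] {n m z : N} {l r : ℤ} (h1 : n * m * n⁻¹ = m⁻¹)
    (h2 : m * z * m⁻¹ = z ^ l) (h3 : n⁻¹ * z * n = z ^ r) : m * m * z * (m * m)⁻¹ = z := by
  have h4 : m⁻¹ * z * m = z ^ l := by
    calc m⁻¹ * z * m = (n * m * n⁻¹) * z * (n * m * n⁻¹)⁻¹ := by rw [h1, inv_inv]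
      _ = n * (m * (n⁻¹ * z * n) * m⁻¹) * n⁻¹ := by group
      _ = n * (m * z * m⁻¹) ^ r * n⁻¹ := by rw [h3, conj_zpow]
      _ = n * (z ^ r) ^ l * n⁻¹ := by rw [h2, ← zpow_mul, ← zpow_mul, mul_comm]
      _ = (n * (n⁻¹ * z * n) * n⁻¹) ^ l := by rw [h3, conj_zpow]
      _ = z ^ l := by group
  have h5 : m * z * m⁻¹ = m⁻¹ * z * m := by rw [h2, h4]
  calc m * m * z * (m * m)⁻¹ = m * (m * z * m⁻¹) * m⁻¹ := by group
    _ = m * (m⁻¹ * z * m) * m⁻¹ := by rw [h5]
    _ = z := by group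

/-! ### Actions on additive groups -/

section action

variable {N V : Type*} [Group N] [AddCommGroup V] [DistribMulAction N V]

theorem fpf_pair (p : ℕ) (a b : N) (hab : a * b = b * a) (w : V)
    (ha : ∀ i, 0 < i → i < p → ∑ j ∈ range p, ((a ^ i) ^ j) • w = 0)
    (hb : ∀ j, j < p → ∑ i ∈ range p, ((b * a ^ j) ^ i) • w = 0) : p • w = 0 := by
  have h1 : ∑ j ∈ range p, ∑ i ∈ range p, ((b * a ^ j) ^ i) • w = 0 :=
    Finset.sum_eq_zero (fun j hj => hb j (mem_range.mp hj))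
  rw [Finset.sum_comm] at h1
  have h2 : ∀ i ∈ range p, ∑ j ∈ range p, ((b * a ^ j) ^ i) • w = if i = 0 then p • w else 0 := by
    intro i hi
    split_ifs with h
    · subst h
      simp
    · have h3 : ∀ j ∈ range p, ((b * a ^ j) ^ i) • w = b ^ i • (((a ^ i) ^ j) • w) := by
        intro j _
        have hc : Commute b (a ^ j) := (show Commute b a from hab.symm).pow_right j
        rw [smul_smul, hc.mul_pow, ← pow_mul, ← pow_mul, mul_comm j i]
      rw [Finset.sum_congr rfl h3, ← Finset.smul_sum,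
        ha i (Nat.pos_of_ne_zero h) (mem_range.mp hi), smul_zero]
  rw [Finset.sum_congr rfl h2, Finset.sum_ite_eq'] at h1
  split_ifs at h1 with h
  · exact h1
  · have : p = 0 := by
      simpa using h
    rw [this, zero_smul]

theorem norm_fixed (p : ℕ) (c : N) (hc : c ^ p = 1) (w : V) :
    c • ∑ j ∈ range p, (c ^ j) • w = ∑ j ∈ range p, (c ^ j) • w := by
  rw [Finset.smul_sum]
  have h1 : ∀ j ∈ range p, c • (c ^ j) • w = (c ^ (j + 1)) • w := by
    intro j _
    rw [smul_smul, ← pow_succ']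
  rw [Finset.sum_congr rfl h1]
  have h2 := Finset.sum_range_succ (fun j => (c ^ j) • w) p
  have h3 := Finset.sum_range_succ' (fun j => (c ^ j) • w) p
  rw [h3] at h2
  rw [hc, pow_zero] at h2
  exact add_right_cancel h2

/-- Choice of `M ≤ A` maximal with a nonzero fixed vector. -/
theorem exists_max_fix [Finite N] [Nontrivial V] (A : Subgroup N) :
    ∃ M : Subgroup N, M ≤ A ∧ (∃ w : V, w ≠ 0 ∧ ∀ a ∈ M, a • w = w) ∧
      ∀ w : V, w ≠ 0 → (∀ a ∈ M, a • w = w) → ∀ b ∈ A, b • w = w → b ∈ M := by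
  classical
  have hne : {M : Subgroup N | M ≤ A ∧ ∃ w : V, w ≠ 0 ∧ ∀ a ∈ M, a • w = w}.Nonempty := by
    obtain ⟨w, hw⟩ := exists_ne (0 : V)
    refine ⟨⊥, bot_le, w, hw, ?_⟩
    intro a ha
    rw [Subgroup.mem_bot.mp ha, one_smul]
  obtain ⟨M, hM⟩ := (Set.toFinite _).exists_maximal hne
  refine ⟨M, hM.1.1, hM.1.2, ?_⟩
  intro w hw hMw b hb hbw
  have hle : M ≤ A ⊓ MulAction.stabilizer N w := by
    intro a ha
    exact ⟨hM.1.1 ha, MulAction.mem_stabilizer_iff.mpr (hMw a ha)⟩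
  have h1 := hM.2 (y := A ⊓ MulAction.stabilizer N w)
    ⟨inf_le_left, w, hw, fun a ha => MulAction.mem_stabilizer_iff.mp ha.2⟩ hle
  exact h1 ⟨hb, MulAction.mem_stabilizer_iff.mpr hbw⟩

/-- `A / M` is cyclic. -/
theorem cyclic_mod [Nontrivial V] {p s : ℕ} (hp : p.Prime) (hs : s.Prime) (hsp : s ≠ p)
    (hVs : ∀ v : V, s • v = 0) (A M : Subgroup N) (hAc : ∀ a ∈ A, ∀ b ∈ A, a * b = b * a)
    (hAp : ∀ a ∈ A, a ^ p = 1) (hMA : M ≤ A) (hM1 : ∃ w : V, w ≠ 0 ∧ ∀ a ∈ M, a • w = w)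
    (hM2 : ∀ w : V, w ≠ 0 → (∀ a ∈ M, a • w = w) → ∀ b ∈ A, b • w = w → b ∈ M)
    {a b : N} (ha : a ∈ A) (haM : a ∉ M) (hb : b ∈ A) : ∃ j : ℕ, b * a ^ j ∈ M := by
  by_contra hcon
  push Not at hcon
  obtain ⟨w, hw, hMw⟩ := hM1
  have key : ∀ c ∈ A, c ∉ M → ∑ j ∈ range p, (c ^ j) • w = 0 := by
    intro c hc hcM
    by_contra hne
    refine hcM (hM2 _ hne ?_ c hc (norm_fixed p c (hAp c hc) w))
    intro x hx
    rw [Finset.smul_sum]
    refine Finset.sum_congr rfl (fun j _ => ?_)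
    rw [smul_smul, hAc x (hMA hx) _ (A.pow_mem hc j), ← smul_smul, hMw x hx]
  have h1 : p • w = 0 := by
    apply fpf_pair p a b (hAc a ha b hb) w
    · intro i hi0 hip
      refine key _ (A.pow_mem ha i) (fun h => haM ?_)
      exact mem_of_pow_mem M hp.one_lt
        (Nat.coprime_of_lt_prime hi0.ne' hip hp).symm (hAp a ha) h
    · intro j _
      exact key _ (A.mul_mem hb (A.pow_mem ha j)) (hcon j)
  have hcop : Nat.Coprime p s := (Nat.coprime_primes hp hs).mpr (Ne.symm hsp)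
  apply hw
  have h2 : ((p : ℤ) * p.gcdA s + s * p.gcdB s) • w = w := by
    rw [← Nat.gcd_eq_gcd_ab, hcop]
    simp
  rw [← h2, add_smul, mul_comm, mul_comm (s : ℤ), mul_smul, mul_smul]
  simp only [natCast_zsmul, h1, hVs, smul_zero, add_zero]

end action

/-! ### The choice of `z` and of `m` -/

theorem exists_z {N : Type*} [Group N] [Finite N] (A M : Subgroup N) [A.Normal] (hA1 : A ≠ ⊥)
    (hAmin : ∀ B : Subgroup N, B.Normal → B ≤ A → B ≠ ⊥ → B = A) (hM : ¬ A ≤ M) :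
    ∃ z ∈ A, z ∉ M ∧ ∀ u ∈ A, u ≠ 1 → Subgroup.centralizer {z} ≤ Subgroup.centralizer {u} →
      Subgroup.centralizer {u} ≤ Subgroup.centralizer {z} := by
  obtain ⟨x, hx, hx1⟩ := A.bot_or_exists_ne_one.resolve_left hA1
  obtain ⟨z1, ⟨hz1A, hz11⟩, hmax⟩ := Set.exists_max_image {z : N | z ∈ A ∧ z ≠ 1}
    (fun z => Nat.card (Subgroup.centralizer {z})) (Set.toFinite _) ⟨x, hx, hx1⟩
  have hK : Subgroup.normalClosure {z1} = A := by
    refine hAmin _ Subgroup.normalClosure_normal ?_ ?_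
    · exact Subgroup.normalClosure_le_normal (Set.singleton_subset_iff.mpr hz1A)
    · intro h
      apply hz11
      have : z1 ∈ Subgroup.normalClosure {z1} := Subgroup.subset_normalClosure rfl
      rw [h] at this
      exact Subgroup.mem_bot.mp this
  have hn : ∃ n : N, n * z1 * n⁻¹ ∉ M := by
    by_contra h
    push Not at h
    apply hM
    rw [← hK]
    refine (Subgroup.closure_le _).mpr ?_
    intro y hy
    obtain ⟨y', hy', hc⟩ := Group.mem_conjugatesOfSet_iff.mp hy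
    rw [Set.mem_singleton_iff] at hy'
    subst hy'
    obtain ⟨n, rfl⟩ := isConj_iff.mp hc
    exact h n
  obtain ⟨n, hn⟩ := hn
  refine ⟨n * z1 * n⁻¹, Subgroup.Normal.conj_mem inferInstance _ hz1A n, hn, ?_⟩
  intro u hu hu1 hle
  have h1 : Nat.card (Subgroup.centralizer {u}) ≤ Nat.card (Subgroup.centralizer {z1}) :=
    hmax u ⟨hu, hu1⟩
  have h2 : Nat.card (Subgroup.centralizer {z1}) ≤
      Nat.card (Subgroup.centralizer {n * z1 * n⁻¹}) := by
    refine Nat.card_le_card_of_injective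
      (fun y : Subgroup.centralizer {z1} => (⟨n * y * n⁻¹, ?_⟩ :
        Subgroup.centralizer {n * z1 * n⁻¹})) ?_
    · have hy := y.2
      rw [Subgroup.mem_centralizer_singleton_iff] at hy ⊢
      calc n * (y : N) * n⁻¹ * (n * z1 * n⁻¹) = n * ((y : N) * z1) * n⁻¹ := by group
        _ = n * (z1 * y) * n⁻¹ := by rw [hy]
        _ = n * z1 * n⁻¹ * (n * y * n⁻¹) := by group
    · intro a b hab
      have := congrArg Subtype.val hab
      exact Subtype.ext (mul_left_cancel (mul_right_cancel this))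
  exact (Subgroup.eq_of_le_of_card_ge hle (h1.trans h2)).ge

theorem step5 {N : Type*} [Group N] {p : ℕ} (hp : p.Prime) (hp5 : 5 ≤ p)
    (A M : Subgroup N) [A.Normal] (hAc : ∀ a ∈ A, ∀ b ∈ A, a * b = b * a)
    (hAp : ∀ a ∈ A, a ^ p = 1) (hMA : M ≤ A) {z : N} (hz : z ∈ A) (hzM : z ∉ M)
    {u : N} (huM : u ∈ M) (hu1 : u ≠ 1)
    (hzu : Subgroup.centralizer {z} ≤ Subgroup.centralizer {u})
    (hmax : ∀ u ∈ A, u ≠ 1 → Subgroup.centralizer {z} ≤ Subgroup.centralizer {u} →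
      Subgroup.centralizer {u} ≤ Subgroup.centralizer {z}) {m : N}
    (hmu : m * u * m⁻¹ = u ^ 2) (hmM : ∀ a ∈ M, m * a * m⁻¹ ∈ M) :
    m * m * z * (m * m)⁻¹ * z⁻¹ ∉ M := by
  intro hc
  have hup : u ^ p = 1 := hAp u (hMA huM)
  have hodd : Nat.Coprime 2 p := by
    have := (Nat.coprime_primes Nat.prime_two hp).mpr (by omega)
    exact this
  have huz : Subgroup.centralizer {u} ≤ Subgroup.centralizer {z} := hmax u (hMA huM) hu1 hzu
  -- `m` normalizes the centralizer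
  have hXm : ∀ x ∈ Subgroup.centralizer {z}, m⁻¹ * x * m ∈ Subgroup.centralizer {z} := by
    intro x hx
    apply huz
    have h1 := hzu hx
    rw [Subgroup.mem_centralizer_singleton_iff] at h1 ⊢
    have h2 : u = m⁻¹ * u ^ 2 * m := by
      rw [← hmu]
      group
    have h3 : Commute x (u ^ 2) := (show Commute x u from h1).pow_right 2
    calc m⁻¹ * x * m * u = m⁻¹ * x * m * (m⁻¹ * u ^ 2 * m) := by rw [← h2]
      _ = m⁻¹ * (x * u ^ 2) * m := by group
      _ = m⁻¹ * (u ^ 2 * x) * m := by rw [h3.eq]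
      _ = (m⁻¹ * u ^ 2 * m) * (m⁻¹ * x * m) := by group
      _ = u * (m⁻¹ * x * m) := by rw [← h2]
  set c := m * m with hcdef
  have hcM : ∀ a ∈ M, c * a * c⁻¹ ∈ M := by
    intro a ha
    have := hmM _ (hmM a ha)
    have h : c * a * c⁻¹ = m * (m * a * m⁻¹) * m⁻¹ := by rw [hcdef]; group
    rw [h]
    exact this
  have hXc : ∀ k : ℕ, ∀ x ∈ Subgroup.centralizer {z},
      (c ^ k)⁻¹ * x * c ^ k ∈ Subgroup.centralizer {z} := by
    intro k
    induction k with
    | zero => intro x hx; simpa using hx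
    | succ k ih =>
      intro x hx
      have h1 := hXm _ (hXm _ (ih x hx))
      have h : (c ^ (k + 1))⁻¹ * x * c ^ (k + 1) =
          m⁻¹ * (m⁻¹ * ((c ^ k)⁻¹ * x * c ^ k) * m) * m := by
        rw [pow_succ, mul_inv_rev, hcdef]
        group
      rw [h]
      exact h1
  have hcu1 : c * u * c⁻¹ = u ^ 4 := by
    have h : c * u * c⁻¹ = m * (m * u * m⁻¹) * m⁻¹ := by
      rw [hcdef]; group
    rw [h, hmu, ← conj_pow, hmu, ← pow_mul]
  have hcu : ∀ k : ℕ, c ^ k * u * (c ^ k)⁻¹ = u ^ (4 ^ k) := by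
    intro k
    induction k with
    | zero => simp
    | succ k ih =>
      calc c ^ (k + 1) * u * (c ^ (k + 1))⁻¹ = c * (c ^ k * u * (c ^ k)⁻¹) * c⁻¹ := by
            rw [pow_succ']; group
        _ = c * u ^ (4 ^ k) * c⁻¹ := by rw [ih]
        _ = (c * u * c⁻¹) ^ (4 ^ k) := by rw [conj_pow]
        _ = u ^ (4 ^ (k + 1)) := by rw [hcu1, ← pow_mul, pow_succ' 4 k]
  have hck : c ^ (p - 1) * z = z * c ^ (p - 1) := by
    have h1 : c ^ (p - 1) ∈ Subgroup.centralizer {u} := by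
      rw [Subgroup.mem_centralizer_singleton_iff]
      have h2 := hcu (p - 1)
      have h3 : u ^ (4 ^ (p - 1)) = u := by
        have h4 : 4 ^ (p - 1) % p = 1 := by
          have h5 : Nat.Coprime 4 p := by
            have : (4 : ℕ) = 2 ^ 2 := by norm_num
            rw [this]
            exact Nat.Coprime.pow_left 2 hodd
          have h6 := Nat.ModEq.pow_totient h5
          rw [Nat.totient_prime hp] at h6
          have h7 : (1 : ℕ) % p = 1 := Nat.mod_eq_of_lt hp.one_lt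
          rw [Nat.ModEq, h7] at h6
          exact h6
        rw [← Nat.mod_add_div (4 ^ (p - 1)) p, h4, pow_add, pow_mul, hup, one_pow, mul_one,
          pow_one]
      rw [h3] at h2
      exact mul_inv_eq_iff_eq_mul.mp h2
    exact Subgroup.mem_centralizer_singleton_iff.mp (huz h1)
  -- conjugates of `z`
  have h1 : ∀ k : ℕ, c ^ k * z * (c ^ k)⁻¹ * z⁻¹ ∈ M := by
    intro k
    induction k with
    | zero => simp
    | succ k ih =>
      have h : c ^ (k + 1) * z * (c ^ (k + 1))⁻¹ * z⁻¹ =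
          (c * (c ^ k * z * (c ^ k)⁻¹ * z⁻¹) * c⁻¹) * (c * z * c⁻¹ * z⁻¹) := by
        rw [pow_succ']; group
      rw [h]
      exact M.mul_mem (hcM _ ih) hc
  have hg : ∀ k : ℕ, (z * c) ^ (k + 1) * (c ^ (k + 1))⁻¹ =
      ((z * c) ^ k * (c ^ k)⁻¹) * (c ^ k * z * (c ^ k)⁻¹) := by
    intro k
    rw [pow_succ, pow_succ]
    group
  have h2 : ∀ k : ℕ, (z * c) ^ k * (c ^ k)⁻¹ ∈ A := by
    intro k
    induction k with
    | zero => simp
    | succ k ih =>
      rw [hg]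
      exact A.mul_mem ih (Subgroup.Normal.conj_mem inferInstance _ hz _)
  have h3 : ∀ k : ℕ, Subgroup.centralizer {z} ≤
      Subgroup.centralizer {(z * c) ^ k * (c ^ k)⁻¹} := by
    intro k
    induction k with
    | zero =>
      intro x _
      rw [Subgroup.mem_centralizer_singleton_iff]
      simp
    | succ k ih =>
      intro x hx
      rw [hg]
      have h4 := ih hx
      have h5 := hXc k x hx
      rw [Subgroup.mem_centralizer_singleton_iff] at h4 h5 ⊢
      have h6 : x * (c ^ k * z * (c ^ k)⁻¹) = (c ^ k * z * (c ^ k)⁻¹) * x := by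
        calc x * (c ^ k * z * (c ^ k)⁻¹) = c ^ k * ((c ^ k)⁻¹ * x * c ^ k * z) * (c ^ k)⁻¹ := by
              group
          _ = c ^ k * (z * ((c ^ k)⁻¹ * x * c ^ k)) * (c ^ k)⁻¹ := by rw [h5]
          _ = (c ^ k * z * (c ^ k)⁻¹) * x := by group
      rw [← mul_assoc, h4, mul_assoc, h6]
      simp only [mul_assoc]
  have h4 : ∀ k : ℕ, ((z * c) ^ k * (c ^ k)⁻¹) * (z ^ k)⁻¹ ∈ M := by
    intro k
    induction k with
    | zero => simp
    | succ k ih =>
      have h5 : ((z * c) ^ (k + 1) * (c ^ (k + 1))⁻¹) * (z ^ (k + 1))⁻¹ =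
          (((z * c) ^ k * (c ^ k)⁻¹) * (z ^ k)⁻¹) * (c ^ k * z * (c ^ k)⁻¹ * z⁻¹) := by
        have h6 := hAc _ (hMA (h1 k)) _ (A.inv_mem (A.pow_mem hz k))
        rw [hg, mul_assoc _ (z ^ k)⁻¹, ← h6, pow_succ]
        group
      rw [h5]
      exact M.mul_mem ih (h1 k)
  set b := (z * c) ^ (p - 1) * (c ^ (p - 1))⁻¹ with hb
  have hbA : b ∈ A := h2 _
  have hbM : b ∉ M := by
    intro h
    apply hzM
    have h5 : z ^ (p - 1) ∈ M := by
      have h6 := M.mul_mem (M.inv_mem (h4 (p - 1))) h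
      have h7 : (b * (z ^ (p - 1))⁻¹)⁻¹ * b = z ^ (p - 1) := by
        rw [mul_inv_rev, inv_inv, mul_assoc, inv_mul_cancel, mul_one]
      rw [← h7]
      exact h6
    refine mem_of_pow_mem M hp.one_lt ?_ (hAp z hz) h5
    exact (Nat.coprime_of_lt_prime (by omega) (by omega) hp).symm
  have hb1 : b ≠ 1 := fun h => hbM (h ▸ M.one_mem)
  have hbz : z⁻¹ * b * z = b := by
    rw [mul_assoc, hAc b hbA z hz, inv_mul_cancel_left]
  have hcb : c * b * c⁻¹ = b := by
    have h6 : c * (z * c) ^ (p - 1) = z⁻¹ * ((z * c) ^ (p - 1) * (z * c)) := by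
      rw [← pow_succ, pow_succ', mul_assoc z c, inv_mul_cancel_left]
    calc c * b * c⁻¹ = c * (z * c) ^ (p - 1) * (c ^ (p - 1))⁻¹ * c⁻¹ := by rw [hb]; group
      _ = z⁻¹ * ((z * c) ^ (p - 1) * (z * c)) * (c ^ (p - 1))⁻¹ * c⁻¹ := by rw [h6]
      _ = z⁻¹ * (z * c) ^ (p - 1) * (z * (c ^ (p - 1))⁻¹) := by group
      _ = z⁻¹ * (z * c) ^ (p - 1) * ((c ^ (p - 1))⁻¹ * z) := by
          congr 1
          have h7 : Commute z (c ^ (p - 1)) := hck.symm
          exact h7.inv_right.eq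
      _ = z⁻¹ * b * z := by rw [hb]; group
      _ = b := hbz
  have hcX : c ∈ Subgroup.centralizer {u} := by
    apply hzu
    apply hmax b hbA hb1 (h3 _)
    rw [Subgroup.mem_centralizer_singleton_iff]
    exact mul_inv_eq_iff_eq_mul.mp hcb
  rw [Subgroup.mem_centralizer_singleton_iff] at hcX
  have h8 := hcu 1
  rw [pow_one, pow_one, mul_inv_eq_iff_eq_mul.mpr hcX] at h8
  have h9 : u ^ 3 = 1 := by
    have : u ^ 3 * u = 1 * u := by
      rw [← pow_succ, one_mul]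
      exact h8.symm
    exact mul_right_cancel this
  apply hu1
  have h10 := mem_of_pow_mem (⊥ : Subgroup N) (p := p) (i := 3) (a := u) hp.one_lt
    ((Nat.coprime_primes Nat.prime_three hp).mpr (by omega)) hup (by rw [h9]; exact one_mem _)
  exact Subgroup.mem_bot.mp h10

/-! ### `m` and `m⁻¹` act differently on `A / M` -/

theorem core_conj {N : Type*} [Group N] {A M : Subgroup N} [A.Normal]
    (hAc : ∀ a ∈ A, ∀ b ∈ A, a * b = b * a) (hMA : M ≤ A) {z : N} (hz : z ∈ A)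
    (hcyc : ∀ b ∈ A, ∃ j : ℕ, b * z ^ j ∈ M) {m n : N}
    (hm : m ∈ Subgroup.normalizer (M : Set N)) (hn : n ∈ Subgroup.normalizer (M : Set N))
    (h : n * m * n⁻¹ = m⁻¹) : m * m * z * (m * m)⁻¹ * z⁻¹ ∈ M := by
  have hzL : z ∈ Subgroup.normalizer (M : Set N) := by
    rw [Subgroup.mem_normalizer_iff]
    intro a
    constructor
    · intro ha
      rw [hAc z hz a (hMA ha), mul_inv_cancel_right]
      exact ha
    · intro ha
      have h1 : a ∈ A := by
        have := Subgroup.Normal.conj_mem (inferInstance : A.Normal) _ (hMA ha) z⁻¹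
        have h2 : z⁻¹ * (z * a * z⁻¹) * z⁻¹⁻¹ = a := by group
        rwa [h2] at this
      rw [hAc z hz a h1, mul_inv_cancel_right] at ha
      exact ha
  let L := Subgroup.normalizer (M : Set N)
  let π : L →* L ⧸ (M.subgroupOf L) := QuotientGroup.mk' _
  have hπ : ∀ x : L, π x = 1 ↔ (x : N) ∈ M := by
    intro x
    rw [← Subgroup.mem_subgroupOf]
    exact QuotientGroup.eq_one_iff x
  obtain ⟨j, hj⟩ := hcyc _ (Subgroup.Normal.conj_mem (inferInstance : A.Normal) _ hz m)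
  obtain ⟨r, hr⟩ := hcyc _ (Subgroup.Normal.conj_mem (inferInstance : A.Normal) _ hz n⁻¹)
  rw [inv_inv] at hr
  have h1 := (hπ (⟨m, hm⟩ * ⟨z, hzL⟩ * ⟨m, hm⟩⁻¹ * ⟨z, hzL⟩ ^ j)).mpr hj
  have h2 := (hπ (⟨n, hn⟩⁻¹ * ⟨z, hzL⟩ * ⟨n, hn⟩ * ⟨z, hzL⟩ ^ r)).mpr hr
  have h3 : (⟨n, hn⟩ * ⟨m, hm⟩ * ⟨n, hn⟩⁻¹ : L) = ⟨m, hm⟩⁻¹ := Subtype.ext h
  have h4 := congrArg π h3
  simp only [map_mul, map_inv, map_pow] at h1 h2 h4
  have h5 := conj_step (l := -j) (r := -r) h4
    (by rw [zpow_neg, zpow_natCast]; exact eq_inv_of_mul_eq_one_left h1)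
    (by rw [zpow_neg, zpow_natCast]; exact eq_inv_of_mul_eq_one_left h2)
  have h6 := (hπ (⟨m, hm⟩ * ⟨m, hm⟩ * ⟨z, hzL⟩ * (⟨m, hm⟩ * ⟨m, hm⟩)⁻¹ * ⟨z, hzL⟩⁻¹)).mp (by
    simp only [map_mul, map_inv]
    rw [h5, mul_inv_cancel])
  exact h6

/-! ### The norm argument -/

theorem core_norm {N V : Type*} [Group N] [AddCommGroup V] [DistribMulAction N V] [Finite N]
    [Finite V] {s : ℕ} (A M : Subgroup N) [A.Normal] (hAc : ∀ a ∈ A, ∀ b ∈ A, a * b = b * a)
    (hMA : M ≤ A) (hcard : (Nat.card M).Coprime s) (hVs : ∀ v : V, s • v = 0)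
    (hM2 : ∀ w : V, w ≠ 0 → (∀ a ∈ M, a • w = w) → ∀ b ∈ A, b • w = w → b ∈ M)
    (w : V) (hw : w ≠ 0) (hMw : ∀ a ∈ M, a • w = w) (m : N) (hmw : m • w = w)
    (hm : m ∈ Subgroup.normalizer (M : Set N))
    (h3 : ∀ w' : V, ∃ (v : V) (n : N), n * m * n⁻¹ = m⁻¹ ∧ n • w' = -v - m⁻¹ • w' + m⁻¹ • v)
    (hn : ∀ n : N, n * m * n⁻¹ = m⁻¹ → ∃ a ∈ M, n * a * n⁻¹ ∉ M) : False := by
  classical
  have hfM : Fintype M := Fintype.ofFinite M
  have hm1 : ∀ a ∈ M, m * a * m⁻¹ ∈ M := fun a ha => (Subgroup.mem_normalizer_iff.mp hm a).mp ha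
  have hm2 : ∀ a ∈ M, m⁻¹ * a * m ∈ M := fun a ha => (Subgroup.mem_normalizer_iff''.mp hm a).mp ha
  let W : AddSubgroup V :=
    { carrier := {v | ∀ a ∈ M, a • v = v}
      zero_mem' := fun a _ => smul_zero a
      add_mem' := fun {x y} hx hy a ha => by rw [smul_add, hx a ha, hy a ha]
      neg_mem' := fun {x} hx a ha => by rw [smul_neg, hx a ha] }
  have hWm : ∀ v ∈ W, m • v ∈ W := by
    intro v hv a ha
    have h1 : a • m • v = m • (m⁻¹ * a * m) • v := by
      rw [smul_smul, smul_smul]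
      congr 1
      group
    rw [h1, hv _ (hm2 a ha)]
  let θ : W →+ W :=
    { toFun := fun v => ⟨m • (v : V) - v, W.sub_mem (hWm v v.2) v.2⟩
      map_zero' := Subtype.ext (by simp)
      map_add' := fun x y => Subtype.ext (by
        simp only [AddSubgroup.coe_add, smul_add]
        abel) }
  have hninj : ¬ Function.Injective θ := by
    intro hinj
    have h1 : θ ⟨w, hMw⟩ = θ 0 := by
      rw [map_zero]
      exact Subtype.ext (by simp [θ, hmw])
    exact hw (congrArg Subtype.val (hinj h1))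
  rw [Finite.injective_iff_surjective] at hninj
  obtain ⟨w', hw'⟩ : ∃ w' : W, ∀ v : W, θ v ≠ w' := by
    by_contra hcon
    push Not at hcon
    exact hninj hcon
  obtain ⟨v, n, hnm, hv⟩ := h3 w'
  obtain ⟨a0, ha0, ha0M⟩ := hn n hnm
  let E : V →+ V := ∑ a : M, DistribSMul.toAddMonoidHom V (a : N)
  have hE : ∀ x : V, E x = ∑ a : M, (a : N) • x := by
    intro x
    simp only [E, AddMonoidHom.finsetSum_apply]
    rfl
  have hE1 : ∀ x : V, ∀ a ∈ M, a • E x = E x := by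
    intro x a ha
    rw [hE, Finset.smul_sum]
    refine Fintype.sum_equiv (Equiv.mulLeft (⟨a, ha⟩ : M)) _ _ (fun y => ?_)
    rw [smul_smul]
    rfl
  have hE2 : ∀ x : V, m⁻¹ • E x = E (m⁻¹ • x) := by
    intro x
    rw [hE, hE, Finset.smul_sum]
    let e : M ≃ M :=
      { toFun := fun a => ⟨m⁻¹ * a * m, hm2 a a.2⟩
        invFun := fun a => ⟨m * a * m⁻¹, hm1 a a.2⟩
        left_inv := fun a => Subtype.ext (by simp [mul_assoc])
        right_inv := fun a => Subtype.ext (by simp [mul_assoc]) }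
    refine Fintype.sum_equiv e _ _ (fun y => ?_)
    have h1 : ((e y : M) : N) = m⁻¹ * y * m := rfl
    rw [h1, smul_smul, smul_smul]
    congr 1
    group
  have hE3 : ∀ x ∈ W, E x = Nat.card M • x := by
    intro x hx
    have h1 : ∀ a : M, (a : N) • x = x := fun a => hx a a.2
    simp only [hE, h1, Finset.sum_const, Finset.card_univ, Nat.card_eq_fintype_card]
  have hE4 : E (n • (w' : V)) = 0 := by
    by_contra hne
    refine ha0M (hM2 _ hne (hE1 _) _ (Subgroup.Normal.conj_mem inferInstance _ (hMA ha0) n) ?_)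
    rw [hE, Finset.smul_sum]
    refine Finset.sum_congr rfl (fun a _ => ?_)
    rw [smul_smul, hAc _ (Subgroup.Normal.conj_mem inferInstance _ (hMA ha0) n) a (hMA a.2),
      mul_smul]
    congr 1
    have h1 : (n * a0 * n⁻¹) • n • (w' : V) = n • a0 • (w' : V) := by
      rw [smul_smul, smul_smul]
      congr 1
      group
    rw [h1, w'.2 a0 ha0]
  rw [hv, map_add, map_sub, map_neg, ← hE2, ← hE2, hE3 _ w'.2] at hE4
  have heW : E v ∈ W := hE1 v
  have h5 : (Nat.card M) • (w' : V) = m • (-E v) - (-E v) := by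
    have h6 := congrArg (fun x => m • x) hE4
    simp only [smul_add, smul_sub, smul_neg, smul_inv_smul, smul_zero] at h6
    rw [smul_neg]
    have h7 : (Nat.card M) • (w' : V) = -(m • E v) + E v - (-(m • E v) - Nat.card M • (w' : V) + E v) := by
      abel
    rw [h7, h6]
    abel
  have h6 : θ ⟨-E v, W.neg_mem heW⟩ = (Nat.card M) • w' := Subtype.ext h5.symm
  refine hw' (((Nat.card M).gcdA s) • ⟨-E v, W.neg_mem heW⟩) ?_
  rw [map_zsmul, h6]
  have h8 : ((Nat.card M : ℤ) * (Nat.card M).gcdA s + s * (Nat.card M).gcdB s) • w' = w' := by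
    rw [← Nat.gcd_eq_gcd_ab, hcard]
    simp
  have h9 : s • w' = 0 := Subtype.ext (hVs w')
  rw [add_smul, mul_comm, mul_comm (s : ℤ), mul_smul, mul_smul] at h8
  simp only [natCast_zsmul, h9, smul_zero, add_zero] at h8
  exact h8

/-! ### The core contradiction -/

theorem core {N V : Type*} [Group N] [AddCommGroup V] [DistribMulAction N V] [Finite N]
    [Finite V] [Nontrivial V] {p s : ℕ} (hp : p.Prime) (hp5 : 5 ≤ p) (hs : s.Prime) (hsp : s ≠ p)
    (hVs : ∀ v : V, s • v = 0)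
    (P A : Subgroup N) [A.Normal] (hPA : ∀ x ∈ P, ∀ a ∈ A, x * a = a * x)
    (hPi : ¬ p ∣ P.index) (hAc : ∀ a ∈ A, ∀ b ∈ A, a * b = b * a) (hAp : ∀ a ∈ A, a ^ p = 1)
    (hA1 : A ≠ ⊥) (hAmin : ∀ B : Subgroup N, B.Normal → B ≤ A → B ≠ ⊥ → B = A)
    (hCA : ∀ v : V, (∀ a ∈ A, a • v = v) → v = 0)
    (h1 : ∀ (n : N) (k : ℕ), k.Coprime (orderOf n) → ∃ t, t * n * t⁻¹ = n ^ k)
    (h1' : ∀ n : N, ∃ t, t * n * t⁻¹ = n⁻¹)
    (h2 : ∀ (w : V) (a : N), a ∈ A → a • w = w → ∃ m : N, m • w = w ∧ m * a * m⁻¹ = a ^ 2)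
    (h3 : ∀ (w : V) (m : N), ∃ (v : V) (n : N), n * m * n⁻¹ = m⁻¹ ∧
      n • w = -v - m⁻¹ • w + m⁻¹ • v) : False := by
  obtain ⟨M, hMA, hM1, hM2⟩ := exists_max_fix (V := V) A
  have hAM : ¬ A ≤ M := by
    intro h
    obtain ⟨w, hw, hMw⟩ := hM1
    exact hw (hCA w (fun a ha => hMw a (h ha)))
  obtain ⟨z, hzA, hzM, hmax⟩ := exists_z A M hA1 hAmin hAM
  have hz1 : z ≠ 1 := fun h => hzM (h ▸ M.one_mem)
  have hcyc : ∀ b ∈ A, ∃ j : ℕ, b * z ^ j ∈ M := fun b hb =>
    cyclic_mod hp hs hsp hVs A M hAc hAp hMA hM1 hM2 hzA hzM hb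
  have : Fact p.Prime := ⟨hp⟩
  have hord : orderOf z = p := orderOf_eq_prime (hAp z hzA) hz1
  obtain ⟨n, hn⟩ := h1 z 2 (by
    rw [hord]
    exact (Nat.coprime_primes Nat.prime_two hp).mpr (by omega))
  have hPz : P ≤ Subgroup.centralizer {z} := by
    intro x hx
    rw [Subgroup.mem_centralizer_singleton_iff]
    exact hPA x hx z hzA
  obtain ⟨u, huA, hXu, huz⟩ := lg_group ⊤ A (Subgroup.centralizer {z})
    (fun n _ a ha => Subgroup.Normal.conj_mem inferInstance a ha n) hAc hAp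
    (fun g _ => by
      obtain ⟨t, ht⟩ := h1' g
      exact ⟨t, trivial, ht⟩)
    le_top z hzA hz1
    (fun x hx => by
      rw [Subgroup.mem_centralizer_singleton_iff] at hx
      rw [hx, mul_inv_cancel_right])
    P (fun c hc a ha => by rw [hPA c hc a ha, mul_inv_cancel_right])
    (fun h => hPi (h.trans (Dvd.intro _ (Subgroup.relIndex_mul_index hPz)))) n trivial 2
    (by
      intro h4
      have h5 : ((2 : ℕ) : ZMod p) ≠ 0 := by
        rw [Ne, ZMod.natCast_eq_zero_iff]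
        exact fun h => absurd (Nat.le_of_dvd two_pos h) (by omega)
      have h6 : ((3 : ℕ) : ZMod p) = 0 := by
        have h7 : ((2 : ℕ) : ZMod p) * ((2 : ℕ) : ZMod p) = 1 := by
          nth_rewrite 1 [h4]
          exact inv_mul_cancel₀ h5
        have h8 : ((3 : ℕ) : ZMod p) = ((2 : ℕ) : ZMod p) * ((2 : ℕ) : ZMod p) - 1 := by
          push_cast
          ring
        rw [h8, h7, sub_self]
      rw [ZMod.natCast_eq_zero_iff] at h6
      exact absurd (Nat.le_of_dvd (by norm_num) h6) (by omega)) hn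
  obtain ⟨j, hj⟩ := hcyc u huA
  have hu01 : u * z ^ j ≠ 1 := by
    intro h
    apply huz
    rw [Subgroup.mem_zpowers_iff]
    exact ⟨-j, by rw [zpow_neg, zpow_natCast]; exact (eq_inv_of_mul_eq_one_left h).symm⟩
  have hzu0 : Subgroup.centralizer {z} ≤ Subgroup.centralizer {u * z ^ j} := by
    intro x hx
    have h4 := hXu x hx
    rw [Subgroup.mem_centralizer_singleton_iff] at hx ⊢
    have h5 : Commute x u := mul_inv_eq_iff_eq_mul.mp h4
    have h6 : Commute x z := hx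
    exact (h5.mul_right (h6.pow_right j)).eq
  obtain ⟨w, hw, hMw⟩ := hM1
  obtain ⟨m, hmw, hmu⟩ := h2 w (u * z ^ j) (hMA hj) (hMw _ hj)
  have hmM : ∀ a ∈ M, m * a * m⁻¹ ∈ M := by
    intro a ha
    refine hM2 w hw hMw _ (Subgroup.Normal.conj_mem inferInstance a (hMA ha) m) ?_
    have h4 : m⁻¹ • w = w := by
      rw [inv_smul_eq_iff, hmw]
    rw [mul_smul, h4, mul_smul, hMw a ha, hmw]
  have hmnorm : m ∈ Subgroup.normalizer (M : Set N) := by
    have : Finite (M : Set N) := Subtype.finite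
    exact Subgroup.mem_normalizer_fintype hmM
  have h5 := step5 hp hp5 A M hAc hAp hMA hzA hzM hj hu01 hzu0 hmax hmu hmM
  have hcard : (Nat.card M).Coprime s := by
    have h6 : IsPGroup p M := by
      intro a
      refine ⟨1, ?_⟩
      rw [pow_one]
      exact Subtype.ext (hAp a (hMA a.2))
    obtain ⟨i, hi⟩ := IsPGroup.iff_card.mp h6
    rw [hi]
    exact Nat.Coprime.pow_left i ((Nat.coprime_primes hp hs).mpr (Ne.symm hsp))
  refine core_norm A M hAc hMA hcard hVs hM2 w hw hMw m hmw hmnorm (fun w' => h3 w' m) ?_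
  intro n' hn'
  by_contra hcon
  push Not at hcon
  have hnnorm : n' ∈ Subgroup.normalizer (M : Set N) := by
    have : Finite (M : Set N) := Subtype.finite
    exact Subgroup.mem_normalizer_fintype hcon
  exact h5 (core_conj hAc hMA hzA hcyc hmnorm hnnorm hn')

end Cfsg.Agent.H174.RatSyl
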