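import Cfsg.Agent.H174.RatCore
import Cfsg.Agent.H535.AHDefs

/-!
**Theorem H** (used for S4162): in a finite rational solvable group the Sylow `p`-subgroups are
normal for `p ≥ 5`.
-/

set_option autoImplicit false
set_option linter.style.haveILetI false

namespace Cfsg.Agent.H174.RatSyl

open Cfsg.Agent.AH

universe u

/-! ### Minimal normal subgroups of solvable groups -/

theorem exists_min_normal (G : Type u) [Group G] [Finite G] [Group.IsSolvable G] [Nontrivial G] :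
    ∃ V : Subgroup G, V.Normal ∧ V ≠ ⊥ ∧ (∀ K : Subgroup G, K.Normal → K ≤ V → K ≠ ⊥ → K = V) ∧
      (∀ a ∈ V, ∀ b ∈ V, a * b = b * a) ∧ ∃ s : ℕ, s.Prime ∧ ∀ v ∈ V, v ^ s = 1 := by
  classical
  have hne : {V : Subgroup G | V.Normal ∧ V ≠ ⊥}.Nonempty :=
    ⟨⊤, inferInstance, top_ne_bot⟩
  obtain ⟨V, hV⟩ := (Set.toFinite _).exists_minimal hne
  obtain ⟨hVn, hV1⟩ := hV.1
  have hmin : ∀ K : Subgroup G, K.Normal → K ≤ V → K ≠ ⊥ → K = V := by
    intro K hK hKV hK1
    exact le_antisymm hKV (hV.2 (y := K) ⟨hK, hK1⟩ hKV)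
  have hcomm : ⁅V, V⁆ = ⊥ := by
    by_contra h
    have h1 := hmin ⁅V, V⁆ inferInstance (Subgroup.commutator_le_left V V) h
    exact (Group.IsSolvable.commutator_lt_of_ne_bot hV1).ne h1
  have hc : ∀ a ∈ V, ∀ b ∈ V, a * b = b * a := by
    intro a ha b hb
    have h1 := Subgroup.commutator_mem_commutator ha hb
    rw [hcomm, Subgroup.mem_bot, commutatorElement_eq_one_iff_mul_comm] at h1
    exact h1
  have hVnt : Nontrivial V := (Subgroup.nontrivial_iff_ne_bot V).mpr hV1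
  obtain ⟨s, hs, hsd⟩ := Nat.exists_prime_and_dvd (n := Nat.card V)
    (Finite.one_lt_card_iff_nontrivial.mpr hVnt).ne'
  have : Fact s.Prime := ⟨hs⟩
  obtain ⟨x, hx⟩ := exists_prime_orderOf_dvd_card' (G := V) s hsd
  let K : Subgroup G :=
    { carrier := {v | v ∈ V ∧ v ^ s = 1}
      one_mem' := ⟨V.one_mem, one_pow s⟩
      mul_mem' := fun {a b} ha hb => ⟨V.mul_mem ha.1 hb.1, by
        rw [(show Commute a b from hc a ha.1 b hb.1).mul_pow, ha.2, hb.2, one_mul]⟩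
      inv_mem' := fun {a} ha => ⟨V.inv_mem ha.1, by rw [inv_pow, ha.2, inv_one]⟩ }
  have hK : K.Normal := ⟨fun v hv g => ⟨hVn.conj_mem v hv.1 g, by
    rw [conj_pow, hv.2, mul_one, mul_inv_cancel]⟩⟩
  have hK1 : K ≠ ⊥ := by
    intro h
    have h1 : (x : G) ∈ K := ⟨x.2, by
      rw [← Subgroup.coe_pow, ← hx, pow_orderOf_eq_one, Subgroup.coe_one]⟩
    rw [h, Subgroup.mem_bot] at h1
    have h2 : x = 1 := Subtype.ext h1
    rw [h2, orderOf_one] at hx
    exact hs.one_lt.ne hx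
  have hKV := hmin K hK (fun v hv => hv.1) hK1
  refine ⟨V, hVn, hV1, hmin, hc, s, hs, fun v hv => ?_⟩
  rw [← hKV] at hv
  exact hv.2

/-! ### Sylow subgroups and normal subgroups -/

theorem sup_normal_of_quotient {G : Type u} [Group G] [Finite G] {p : ℕ} [Fact p.Prime]
    (P : Sylow p G) (K : Subgroup G) [K.Normal]
    (h : ∀ Q : Sylow p (G ⧸ K), (Q : Subgroup (G ⧸ K)).Normal) :
    ((P : Subgroup G) ⊔ K).Normal := by
  have h1 := h (P.mapSurjective (QuotientGroup.mk'_surjective K))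
  rw [Sylow.coe_mapSurjective] at h1
  have h2 := h1.comap (QuotientGroup.mk' K)
  rw [Subgroup.comap_map_eq, QuotientGroup.ker_mk'] at h2
  exact h2

theorem normal_of_pnormal {G : Type u} [Group G] [Finite G] {p : ℕ} [Fact p.Prime]
    (P : Sylow p G) (K : Subgroup G) [K.Normal] (hK : IsPGroup p K)
    (h : ∀ Q : Sylow p (G ⧸ K), (Q : Subgroup (G ⧸ K)).Normal) : (P : Subgroup G).Normal := by
  have h1 := sup_normal_of_quotient P K h
  have h2 : IsPGroup p ((P : Subgroup G) ⊔ K : Subgroup G) :=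
    P.isPGroup'.to_sup_of_normal_right hK
  have h3 := P.is_maximal' h2 le_sup_left
  rw [h3] at h1
  exact h1

/-! ### Decomposition lemmas -/

theorem decomp_unique {G : Type u} [Group G] {V N : Subgroup G} (h : V ⊓ N = ⊥)
    {a b x y : G} (ha : a ∈ V) (hb : b ∈ V) (hx : x ∈ N) (hy : y ∈ N) (hxy : a * x = b * y) :
    a = b ∧ x = y := by
  have h1 : b⁻¹ * a = y * x⁻¹ := by
    rw [eq_mul_inv_iff_mul_eq, mul_assoc, hxy, inv_mul_cancel_left]
  have h2 : b⁻¹ * a ∈ V ⊓ N :=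
    ⟨V.mul_mem (V.inv_mem hb) ha, h1 ▸ N.mul_mem hy (N.inv_mem hx)⟩
  rw [h, Subgroup.mem_bot] at h2
  have h3 : a = b := (inv_mul_eq_one.mp h2).symm
  subst h3
  exact ⟨rfl, mul_left_cancel hxy⟩

theorem conj_reduce {G : Type u} [Group G] {V N : Subgroup G} [V.Normal] (h : V ⊓ N = ⊥)
    {v t x y : G} (hv : v ∈ V) (ht : t ∈ N) (hx : x ∈ N) (hy : y ∈ N)
    (hxy : (v * t) * x * (v * t)⁻¹ = y) : t * x * t⁻¹ = y := by
  have htx : t * x * t⁻¹ ∈ N := N.mul_mem (N.mul_mem ht hx) (N.inv_mem ht)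
  have h1 : (v * ((t * x * t⁻¹) * v⁻¹ * (t * x * t⁻¹)⁻¹)) * (t * x * t⁻¹) = 1 * y := by
    rw [← hxy]
    group
  exact (decomp_unique h (V.mul_mem hv (Subgroup.Normal.conj_mem inferInstance _
    (V.inv_mem hv) _)) V.one_mem htx hy h1).2

/-- The rationality conditions needed in the core argument. -/
theorem rat_conj_pair {G : Type u} [Group G] [Finite G] (hG : IsRat G) {p s : ℕ} (hp : p.Prime)
    (hp3 : 3 ≤ p) (hs : s.Prime) (hsp : s ≠ p) (w a : G) (hw : w ^ s = 1) (ha : a ^ p = 1)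
    (hwa : w * a = a * w) : ∃ g : G, g * w * g⁻¹ = w ∧ g * a * g⁻¹ = a ^ 2 := by
  have hcop : Nat.Coprime s p := (Nat.coprime_primes hs hp).mpr hsp
  have hc : Commute w a := hwa
  obtain ⟨k, hk1, hk2⟩ := Nat.chineseRemainder hcop 1 2
  obtain ⟨i, hi1, hi2⟩ := Nat.chineseRemainder hcop 1 0
  obtain ⟨j, hj1, hj2⟩ := Nat.chineseRemainder hcop 0 1
  have hmod : ∀ {x : G} {n u v : ℕ}, x ^ n = 1 → u ≡ v [MOD n] → x ^ u = x ^ v := by
    intro x n u v hx huv
    rw [← Nat.mod_add_div u n, ← Nat.mod_add_div v n, pow_add, pow_add, pow_mul, pow_mul, hx,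
      one_pow, one_pow, huv]
  have hks : k.Coprime s := by
    have h1 := hk1.gcd_eq
    rw [Nat.gcd_one_left] at h1
    exact h1
  have hkp : k.Coprime p := by
    have h1 := hk2.gcd_eq
    have h2 : Nat.gcd 2 p = 1 := (Nat.coprime_primes Nat.prime_two hp).mpr (by omega)
    rw [h2] at h1
    exact h1
  have hord : orderOf (w * a) ∣ s * p := by
    apply orderOf_dvd_of_pow_eq_one
    rw [hc.mul_pow, pow_mul, hw, one_pow, mul_comm s p, pow_mul, ha, one_pow, one_mul]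
  have hkc : k.Coprime (orderOf (w * a)) :=
    Nat.Coprime.coprime_dvd_right hord (Nat.Coprime.mul_right hks hkp)
  obtain ⟨g, hg⟩ := isConj_iff.mp (hG (w * a) k hkc)
  have hpow : ∀ n : ℕ, g * (w * a) ^ n * g⁻¹ = w ^ (k * n) * a ^ (k * n) := by
    intro n
    rw [← conj_pow, hg, ← pow_mul, hc.mul_pow]
  refine ⟨g, ?_, ?_⟩
  · have h1 := hpow i
    have e1 : w ^ i = w := by rw [hmod hw hi1, pow_one]
    have e2 : a ^ i = 1 := by rw [hmod ha hi2, pow_zero]
    have e3 : w ^ (k * i) = w := by rw [hmod hw (hk1.mul hi1), mul_one, pow_one]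
    have e4 : a ^ (k * i) = 1 := by rw [hmod ha (hk2.mul hi2), mul_zero, pow_zero]
    rw [hc.mul_pow, e1, e2, e3, e4, mul_one] at h1
    exact h1
  · have h1 := hpow j
    have e1 : w ^ j = 1 := by rw [hmod hw hj1, pow_zero]
    have e2 : a ^ j = a := by rw [hmod ha hj2, pow_one]
    have e3 : w ^ (k * j) = 1 := by rw [hmod hw (hk1.mul hj1), mul_zero, pow_zero]
    have e4 : a ^ (k * j) = a ^ 2 := by rw [hmod ha (hk2.mul hj2), mul_one]
    rw [hc.mul_pow, e1, e2, e3, e4, one_mul, one_mul] at h1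
    exact h1

theorem core_group {G : Type u} [Group G] [Finite G] (hG : IsRat G) {p s : ℕ} (hp : p.Prime)
    (hp5 : 5 ≤ p) (hs : s.Prime) (hsp : s ≠ p) (V N : Subgroup G) [V.Normal] (hV1 : V ≠ ⊥)
    (hVc : ∀ a ∈ V, ∀ b ∈ V, a * b = b * a) (hVs : ∀ v ∈ V, v ^ s = 1)
    (hVN : V ⊓ N = ⊥) (hsup : ∀ g : G, ∃ v ∈ V, ∃ n ∈ N, v * n = g)
    (P A : Subgroup N) [A.Normal] (hPA : ∀ x ∈ P, ∀ a ∈ A, x * a = a * x)
    (hPi : ¬ p ∣ P.index) (hAc : ∀ a ∈ A, ∀ b ∈ A, a * b = b * a) (hAp : ∀ a ∈ A, a ^ p = 1)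
    (hA1 : A ≠ ⊥) (hAmin : ∀ B : Subgroup N, B.Normal → B ≤ A → B ≠ ⊥ → B = A)
    (hCA : ∀ v ∈ V, (∀ a ∈ A, (a : G) * v * (a : G)⁻¹ = v) → v = 1) : False := by
  letI : CommGroup V :=
    { (inferInstance : Group V) with
      mul_comm := fun a b => Subtype.ext (hVc a a.2 b b.2) }
  have hVn : ∀ (n : G) (v : G), v ∈ V → n * v * n⁻¹ ∈ V := fun n v hv =>
    Subgroup.Normal.conj_mem inferInstance v hv n
  letI : DistribMulAction N (Additive V) :=
    { smul := fun n v => Additive.ofMul ⟨(n : G) * ((v.toMul : V) : G) * (n : G)⁻¹,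
        hVn _ _ v.toMul.2⟩
      one_smul := fun v => congrArg Additive.ofMul (Subtype.ext
        (show (1 : G) * ((v.toMul : V) : G) * (1 : G)⁻¹ = ((v.toMul : V) : G) by group))
      mul_smul := fun m n v => congrArg Additive.ofMul (Subtype.ext
        (show ((m : G) * (n : G)) * ((v.toMul : V) : G) * ((m : G) * (n : G))⁻¹ =
          (m : G) * ((n : G) * ((v.toMul : V) : G) * (n : G)⁻¹) * (m : G)⁻¹ by group))
      smul_zero := fun n => congrArg Additive.ofMul (Subtype.ext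
        (show (n : G) * (1 : G) * (n : G)⁻¹ = 1 by group))
      smul_add := fun n v w => congrArg Additive.ofMul (Subtype.ext
        (show (n : G) * (((v.toMul : V) : G) * ((w.toMul : V) : G)) * (n : G)⁻¹ =
          ((n : G) * ((v.toMul : V) : G) * (n : G)⁻¹) *
            ((n : G) * ((w.toMul : V) : G) * (n : G)⁻¹) by group)) }
  have hsm : ∀ (n : N) (v : Additive V), (((n • v).toMul : V) : G) =
      (n : G) * ((v.toMul : V) : G) * (n : G)⁻¹ := fun _ _ => rfl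
  have hext : ∀ (v w : Additive V), ((v.toMul : V) : G) = ((w.toMul : V) : G) → v = w := by
    intro v w h
    exact congrArg Additive.ofMul (Subtype.ext h)
  haveI : Nontrivial (Additive V) := by
    have : Nontrivial V := (Subgroup.nontrivial_iff_ne_bot V).mpr hV1
    infer_instance
  refine core (N := N) (V := Additive V) hp hp5 hs hsp ?_ P A hPA hPi hAc hAp hA1 hAmin ?_ ?_ ?_ ?_
    ?_
  · intro v
    apply congrArg Additive.ofMul
    exact Subtype.ext (hVs _ v.toMul.2)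
  · intro v hv
    apply hext
    refine hCA _ v.toMul.2 (fun a ha => ?_)
    rw [← hsm, hv a ha]
  · intro n k hk
    rw [← Subgroup.orderOf_coe] at hk
    obtain ⟨g, hg⟩ := isConj_iff.mp (hG (n : G) k hk)
    obtain ⟨v, hv, t, ht, rfl⟩ := hsup g
    exact ⟨⟨t, ht⟩, Subtype.ext (conj_reduce hVN hv ht n.2 (N.pow_mem n.2 k) hg)⟩
  · intro n
    obtain ⟨g, hg⟩ := isConj_iff.mp (hG.inv (n : G))
    obtain ⟨v, hv, t, ht, rfl⟩ := hsup g
    exact ⟨⟨t, ht⟩, Subtype.ext (conj_reduce hVN hv ht n.2 (N.inv_mem n.2) hg)⟩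
  · intro w a ha haw
    have h1 : (a : G) * ((w.toMul : V) : G) * (a : G)⁻¹ = ((w.toMul : V) : G) := by
      rw [← hsm, haw]
    obtain ⟨g, hg1, hg2⟩ := rat_conj_pair hG hp (by omega) hs hsp ((w.toMul : V) : G) (a : G)
      (hVs _ w.toMul.2) (by rw [← Subgroup.coe_pow, hAp a ha, Subgroup.coe_one])
      (mul_inv_eq_iff_eq_mul.mp h1).symm
    obtain ⟨v, hv, t, ht, rfl⟩ := hsup g
    refine ⟨⟨t, ht⟩, hext _ _ ?_, Subtype.ext (conj_reduce hVN hv ht a.2 (N.pow_mem a.2 2) hg2)⟩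
    rw [hsm]
    have h2 : v * t * ((w.toMul : V) : G) * (v * t)⁻¹ =
        v * (t * ((w.toMul : V) : G) * t⁻¹) * v⁻¹ := by group
    rw [h2, hVc v hv _ (hVn _ _ w.toMul.2), mul_inv_cancel_right] at hg1
    exact hg1
  · intro w m
    obtain ⟨g, hg⟩ := isConj_iff.mp (hG.inv (((w.toMul : V) : G) * (m : G)))
    obtain ⟨v, hv, t, ht, rfl⟩ := hsup g
    have hw := w.toMul.2
    set w0 : G := ((w.toMul : V) : G) with hw0
    have h1 : (v * (t * w0 * t⁻¹) * ((t * m * t⁻¹) * v⁻¹ * (t * m * t⁻¹)⁻¹)) * (t * m * t⁻¹) =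
        ((m : G)⁻¹ * w0⁻¹ * (m : G)⁻¹⁻¹) * (m : G)⁻¹ := by
      calc (v * (t * w0 * t⁻¹) * ((t * m * t⁻¹) * v⁻¹ * (t * m * t⁻¹)⁻¹)) * (t * m * t⁻¹) =
          (v * t) * (w0 * m) * (v * t)⁻¹ := by group
        _ = (w0 * m)⁻¹ := hg
        _ = _ := by group
    obtain ⟨h2, h3⟩ := decomp_unique hVN
      (V.mul_mem (V.mul_mem hv (hVn t _ hw)) (hVn _ _ (V.inv_mem hv)))
      (hVn _ _ (V.inv_mem hw)) (N.mul_mem (N.mul_mem ht m.2) (N.inv_mem ht)) (N.inv_mem m.2) h1
    refine ⟨Additive.ofMul ⟨v, hv⟩, ⟨t, ht⟩, Subtype.ext h3, ?_⟩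
    rw [h3] at h2
    have h4 : (Additive.ofMul (⟨v, hv⟩ : V)) + (⟨t, ht⟩ : N) • w +
        m⁻¹ • (-Additive.ofMul (⟨v, hv⟩ : V)) = m⁻¹ • (-w) := by
      apply hext
      exact h2
    rw [smul_neg, smul_neg] at h4
    have h5 : (⟨t, ht⟩ : N) • w = -(Additive.ofMul (⟨v, hv⟩ : V)) +
        ((Additive.ofMul (⟨v, hv⟩ : V)) + (⟨t, ht⟩ : N) • w +
        -(m⁻¹ • (Additive.ofMul (⟨v, hv⟩ : V)))) + m⁻¹ • (Additive.ofMul (⟨v, hv⟩ : V)) := by
      abel
    rw [h5, h4]
    abel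

/-- A nontrivial normal `p`-subgroup contains a minimal normal subgroup which is central in the
`p`-subgroup and of exponent `p`. -/
theorem exists_min_in_pgroup {N : Type u} [Group N] [Finite N] {p : ℕ} (hp : p.Prime)
    (P : Subgroup N) [P.Normal] (hP : IsPGroup p P) (hP1 : P ≠ ⊥) :
    ∃ A : Subgroup N, A.Normal ∧ A ≠ ⊥ ∧ (∀ x ∈ P, ∀ a ∈ A, x * a = a * x) ∧ A ≤ P ∧
      (∀ a ∈ A, a ^ p = 1) ∧ ∀ B : Subgroup N, B.Normal → B ≤ A → B ≠ ⊥ → B = A := by
  classical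
  have hfact : Fact p.Prime := ⟨hp⟩
  have hPnt : Nontrivial P := (Subgroup.nontrivial_iff_ne_bot P).mpr hP1
  let Ω : Subgroup N :=
    { carrier := {x | x ∈ P ∧ (∀ y ∈ P, y * x = x * y) ∧ x ^ p = 1}
      one_mem' := ⟨P.one_mem, fun y _ => by simp, one_pow p⟩
      mul_mem' := fun {a b} ha hb => ⟨P.mul_mem ha.1 hb.1, fun y hy => by
          rw [← mul_assoc, ha.2.1 y hy, mul_assoc, hb.2.1 y hy, mul_assoc], by
        rw [(show Commute a b from hb.2.1 a ha.1).mul_pow, ha.2.2, hb.2.2, one_mul]⟩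
      inv_mem' := fun {a} ha => ⟨P.inv_mem ha.1, fun y hy => by
          have h1 : Commute y a := ha.2.1 y hy
          exact h1.inv_right.eq, by rw [inv_pow, ha.2.2, inv_one]⟩ }
  have hΩn : Ω.Normal := ⟨fun x hx g => ⟨Subgroup.Normal.conj_mem inferInstance x hx.1 g, by
      intro y hy
      have h1 := hx.2.1 (g⁻¹ * y * g) (Subgroup.Normal.conj_mem' inferInstance y hy g)
      calc y * (g * x * g⁻¹) = g * ((g⁻¹ * y * g) * x) * g⁻¹ := by group
        _ = g * (x * (g⁻¹ * y * g)) * g⁻¹ := by rw [h1]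
        _ = g * x * g⁻¹ * y := by group, by
      rw [conj_pow, hx.2.2, mul_one, mul_inv_cancel]⟩⟩
  have hΩ1 : Ω ≠ ⊥ := by
    intro h
    have hc : Nontrivial (Subgroup.center P) := hP.center_nontrivial
    have hcp : IsPGroup p (Subgroup.center P) := hP.to_subgroup _
    obtain ⟨k, hk0, hk⟩ := (IsPGroup.nontrivial_iff_card hcp).mp hc
    obtain ⟨x, hx⟩ := exists_prime_orderOf_dvd_card' (G := Subgroup.center P) p (by
      rw [hk]
      exact dvd_pow_self p hk0.ne')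
    have h1 : (((x : P)) : N) ∈ Ω := by
      refine ⟨(x : P).2, ?_, ?_⟩
      · intro y hy
        have h2 := Subgroup.mem_center_iff.mp x.2 ⟨y, hy⟩
        exact congrArg Subtype.val h2
      · have h2 : x ^ p = 1 := by rw [← hx, pow_orderOf_eq_one]
        exact congrArg (fun y : Subgroup.center P => (((y : P)) : N)) h2
    rw [h, Subgroup.mem_bot] at h1
    have h2 : x = 1 := Subtype.ext (Subtype.ext h1)
    rw [h2, orderOf_one] at hx
    exact hp.one_lt.ne hx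
  have hne : {B : Subgroup N | B.Normal ∧ B ≤ Ω ∧ B ≠ ⊥}.Nonempty := ⟨Ω, hΩn, le_rfl, hΩ1⟩
  obtain ⟨A, hA⟩ := (Set.toFinite _).exists_minimal hne
  refine ⟨A, hA.1.1, hA.1.2.2, fun x hx a ha => (hA.1.2.1 ha).2.1 x hx,
    fun a ha => (hA.1.2.1 ha).1, fun a ha => (hA.1.2.1 ha).2.2, ?_⟩
  intro B hB hBA hB1
  exact le_antisymm hBA (hA.2 (y := B) ⟨hB, hBA.trans hA.1.2.1, hB1⟩ hBA)

theorem sylow_normal_aux {p : ℕ} (hp : p.Prime) (hp5 : 5 ≤ p) (n : ℕ) :
    ∀ (G : Type u) [Group G] [Finite G] [Group.IsSolvable G], Nat.card G = n → IsRat G →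
      ∀ P : Sylow p G, (P : Subgroup G).Normal := by
  classical
  have hfact : Fact p.Prime := ⟨hp⟩
  induction n using Nat.strong_induction_on with
  | _ n ih =>
  intro G _ _ _ hcard hG P
  have hQ : ∀ K : Subgroup G, ∀ _ : K.Normal, K ≠ ⊥ → ∀ Q : Sylow p (G ⧸ K),
      (Q : Subgroup (G ⧸ K)).Normal := by
    intro K hK hK1 Q
    refine ih (Nat.card (G ⧸ K)) ?_ (G ⧸ K) rfl (hG.quotient K) Q
    have h1 := Subgroup.card_eq_card_quotient_mul_card_subgroup K
    have h2 : 1 < Nat.card K :=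
      Finite.one_lt_card_iff_nontrivial.mpr ((Subgroup.nontrivial_iff_ne_bot K).mpr hK1)
    have h3 : 0 < Nat.card (G ⧸ K) := Nat.card_pos
    rw [← hcard, h1]
    exact lt_mul_of_one_lt_right h3 h2
  by_contra hP
  have hop : ∀ K : Subgroup G, K.Normal → IsPGroup p K → K = ⊥ := by
    intro K hK hKp
    by_contra hK1
    exact hP (normal_of_pnormal P K hKp (hQ K hK hK1))
  have hnt : Nontrivial G := by
    rcases subsingleton_or_nontrivial G with h | h
    · exact absurd ⟨fun x hx g => by rw [Subsingleton.elim (g * x * g⁻¹) x]; exact hx⟩ hP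
    · exact h
  obtain ⟨V, hV, hV1, hVmin, hVc, s, hs, hVs⟩ := exists_min_normal G
  have hsp : s ≠ p := by
    rintro rfl
    refine hV1 (hop V hV ?_)
    intro v
    exact ⟨1, Subtype.ext (by rw [pow_one]; exact hVs v v.2)⟩
  have hPV : ((P : Subgroup G) ⊔ V).Normal := sup_normal_of_quotient P V (hQ V hV hV1)
  let N : Subgroup G := Subgroup.normalizer ((P : Subgroup G) : Set G)
  have hPN : (P : Subgroup G) ≤ N := Subgroup.le_normalizer
  have hVNtop : V ⊔ N = ⊤ := by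
    have h1 : N ⊔ ((P : Subgroup G) ⊔ V) = ⊤ :=
      Sylow.normalizer_sup_eq_top' P (N := (P : Subgroup G) ⊔ V) le_sup_left
    rw [← sup_assoc, sup_eq_left.mpr hPN] at h1
    rw [sup_comm]
    exact h1
  have hsup : ∀ g : G, ∃ v ∈ V, ∃ n ∈ N, v * n = g := by
    intro g
    have h1 : g ∈ V ⊔ N := by rw [hVNtop]; trivial
    exact Subgroup.mem_sup_of_normal_left.mp h1
  -- a normality criterion
  have hnorm : ∀ K : Subgroup G, (∀ k ∈ K, ∀ v ∈ V, v * k * v⁻¹ ∈ K) →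
      (∀ k ∈ K, ∀ n ∈ N, n * k * n⁻¹ ∈ K) → K.Normal := by
    intro K h1 h2
    refine ⟨fun k hk g => ?_⟩
    obtain ⟨v, hv, n, hn, rfl⟩ := hsup g
    have h3 : v * n * k * (v * n)⁻¹ = v * (n * k * n⁻¹) * v⁻¹ := by group
    rw [h3]
    exact h1 _ (h2 k hk n hn) v hv
  have hVN : V ⊓ N = ⊥ := by
    by_contra hne
    have h1 : (V ⊓ N).Normal := by
      apply hnorm
      · intro k hk v hv
        rw [hVc v hv k hk.1, mul_inv_cancel_right]
        exact hk
      · intro k hk n hn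
        exact ⟨hV.conj_mem k hk.1 n, N.mul_mem (N.mul_mem hn hk.2) (N.inv_mem hn)⟩
    have h2 := hVmin _ h1 inf_le_left hne
    have h3 : V ≤ N := inf_eq_left.mp h2
    rw [sup_eq_right.mpr h3] at hVNtop
    exact hP (Subgroup.normalizer_eq_top_iff.mp hVNtop)
  -- the Sylow subgroup inside its normalizer
  let P' : Subgroup N := (P : Subgroup G).subgroupOf N
  have hP'n : P'.Normal := Subgroup.normal_in_normalizer
  have hP'p : IsPGroup p P' := P.isPGroup'.comap_subtype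
  have hP'1 : P' ≠ ⊥ := by
    intro h
    apply hP
    have h1 : (P : Subgroup G) = ⊥ := by
      rw [eq_bot_iff]
      intro x hx
      have h2 : (⟨x, hPN hx⟩ : N) ∈ P' := hx
      rw [h, Subgroup.mem_bot] at h2
      exact Subgroup.mem_bot.mpr (congrArg Subtype.val h2)
    rw [h1]
    infer_instance
  obtain ⟨A, hAn, hA1, hPA, hAP, hAp, hAmin⟩ := exists_min_in_pgroup hp P' hP'p hP'1
  refine core_group hG hp hp5 hs hsp V N hV1 hVc hVs hVN hsup P' A hPA ?_
    (fun a ha b hb => hPA a (hAP ha) b hb) hAp hA1 hAmin ?_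
  · intro h
    exact P.not_dvd_index (h.trans (Dvd.intro _ (Subgroup.relIndex_mul_index hPN)))
  · -- `C_V(A) = 1`
    let C : Subgroup G :=
      { carrier := {v | v ∈ V ∧ ∀ a ∈ A, (a : G) * v * (a : G)⁻¹ = v}
        one_mem' := ⟨V.one_mem, fun a _ => by simp⟩
        mul_mem' := fun {x y} hx hy => ⟨V.mul_mem hx.1 hy.1, fun a ha => by
          have h1 : (a : G) * (x * y) * (a : G)⁻¹ =
              ((a : G) * x * (a : G)⁻¹) * ((a : G) * y * (a : G)⁻¹) := by group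
          rw [h1, hx.2 a ha, hy.2 a ha]⟩
        inv_mem' := fun {x} hx => ⟨V.inv_mem hx.1, fun a ha => by
          have h1 : (a : G) * x⁻¹ * (a : G)⁻¹ = ((a : G) * x * (a : G)⁻¹)⁻¹ := by group
          rw [h1, hx.2 a ha]⟩ }
    have hC : C.Normal := by
      apply hnorm
      · intro k hk v hv
        rw [hVc v hv k hk.1, mul_inv_cancel_right]
        exact hk
      · intro k hk n hn
        refine ⟨hV.conj_mem k hk.1 n, fun a ha => ?_⟩
        have h1 := hk.2 _ (hAn.conj_mem' a ha ⟨n, hn⟩)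
        have h2 : (a : G) * (n * k * n⁻¹) * (a : G)⁻¹ =
            n * ((n⁻¹ * a * n) * k * (n⁻¹ * a * n)⁻¹) * n⁻¹ := by group
        rw [h2]
        congr 2
    have hC1 : C = ⊥ := by
      by_contra hne
      have h1 := hVmin C hC (fun v hv => hv.1) hne
      have hA' : (A.map N.subtype).Normal := by
        apply hnorm
        · rintro _ ⟨a, ha, rfl⟩ v hv
          have h2 : v ∈ C := by rw [h1]; exact hv
          have h3 := h2.2 a ha
          have h4 : v * (a : G) * v⁻¹ = a := by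
            rw [mul_inv_eq_iff_eq_mul, ← mul_inv_eq_iff_eq_mul.mp h3]
          refine ⟨a, ha, ?_⟩
          exact h4.symm
        · rintro _ ⟨a, ha, rfl⟩ n hn
          exact ⟨_, hAn.conj_mem a ha ⟨n, hn⟩, rfl⟩
      have h5 := hop _ hA' (by
        rintro ⟨_, a, ha, rfl⟩
        refine ⟨1, Subtype.ext ?_⟩
        rw [pow_one]
        have h7 : ((a ^ p : N) : G) = 1 := congrArg Subtype.val (hAp a ha)
        rw [Subgroup.coe_pow] at h7
        exact h7)
      apply hA1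
      rw [eq_bot_iff]
      intro a ha
      have h6 : (a : G) ∈ A.map N.subtype := ⟨a, ha, rfl⟩
      rw [h5, Subgroup.mem_bot] at h6
      exact Subgroup.mem_bot.mpr (Subtype.ext h6)
    intro v hv hvA
    have h1 : v ∈ C := ⟨hv, hvA⟩
    rw [hC1] at h1
    exact Subgroup.mem_bot.mp h1

/-- **Theorem H.** In a finite rational solvable group every Sylow `p`-subgroup with `p ≥ 5` is
normal. -/
theorem sylow_normal_of_isRat {G : Type u} [Group G] [Finite G] [Group.IsSolvable G]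
    (hG : IsRat G) {p : ℕ} (hp : p.Prime) (hp5 : 5 ≤ p) (P : Sylow p G) :
    (P : Subgroup G).Normal :=
  sylow_normal_aux hp hp5 (Nat.card G) G rfl hG P

end Cfsg.Agent.H174.RatSyl
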