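import Mathlib

/-!
Trace lemma for real linear groups over `ZMod p` (used for S4162: Sylow `p`-subgroups of rational
solvable groups, `p ≥ 5`).
-/

set_option autoImplicit false
set_option linter.style.haveILetI false

namespace Cfsg.Agent.H174.RatSyl

/-- The trace of a linear map whose range lies in a line. -/
theorem trace_of_line {K V : Type*} [Field K] [AddCommGroup V] [Module K V] [FiniteDimensional K V]
    (f : V →ₗ[K] V) (z : V) (hz : z ≠ 0) (c : K) (hfz : f z = c • z)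
    (hf : ∀ v, f v ∈ Submodule.span K ({z} : Set V)) :
    LinearMap.trace K V f = c := by
  have h1 := LinearMap.trace_restrict_eq_of_forall_mem (Submodule.span K ({z} : Set V)) f hf
  rw [← h1]
  have h2 : f.restrict (p := Submodule.span K ({z} : Set V))
      (q := Submodule.span K ({z} : Set V)) (fun x _ => hf x) = c • LinearMap.id := by
    apply LinearMap.ext
    rintro ⟨x, hx⟩
    obtain ⟨a, rfl⟩ := Submodule.mem_span_singleton.mp hx
    apply Subtype.ext
    simp only [LinearMap.restrict_apply, LinearMap.smul_apply, LinearMap.id_apply, map_smul, hfz,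
      SetLike.mk_smul_mk]
    rw [smul_comm]
  rw [h2, map_smul, LinearMap.trace_id, finrank_span_singleton hz]
  simp

/-- **Lemma LG.** `H` a real group of linear maps over `ZMod p`, `X ≤ H` of order prime to `p`
fixing `z ≠ 0`, and some `n ∈ H` maps `z` to `c • z` with `c ≠ c⁻¹`.  Then `X` has a fixed vector
outside the line of `z`. -/
theorem lg {p : ℕ} [Fact p.Prime] {V : Type*} [AddCommGroup V] [Module (ZMod p) V] [Finite V]
    (H X : Subgroup (V ≃ₗ[ZMod p] V)) (hp : ¬ p ∣ Nat.card X)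
    (hreal : ∀ g ∈ H, ∃ t ∈ H, t * g * t⁻¹ = g⁻¹) (hXH : X ≤ H) (z : V) (hz : z ≠ 0)
    (hXz : ∀ x ∈ X, x z = z) (n : V ≃ₗ[ZMod p] V) (hn : n ∈ H) (c : ZMod p) (hc : c ≠ c⁻¹)
    (hnz : n z = c • z) :
    ∃ u : V, (∀ x ∈ X, x u = u) ∧ u ∉ Submodule.span (ZMod p) ({z} : Set V) := by
  classical
  by_contra hcon
  push Not at hcon
  have hfin : Finite (V ≃ₗ[ZMod p] V) :=
    Finite.of_injective (fun e : V ≃ₗ[ZMod p] V => (e : V → V)) DFunLike.coe_injective
  have : Fintype X := Fintype.ofFinite X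
  have : FiniteDimensional (ZMod p) V := Module.Finite.of_finite
  let S : V →ₗ[ZMod p] V := ∑ x : X, ((x : V ≃ₗ[ZMod p] V) : V →ₗ[ZMod p] V)
  have hSfix : ∀ v, ∀ x ∈ X, x (S v) = S v := by
    intro v x hx
    simp only [S, LinearMap.sum_apply, map_sum]
    exact Fintype.sum_equiv (Equiv.mulLeft (⟨x, hx⟩ : X)) _ _ (fun y => rfl)
  have hSz : S z = (Nat.card X : ZMod p) • z := by
    simp only [S, LinearMap.sum_apply]
    have : ∀ x : X, ((x : V ≃ₗ[ZMod p] V) : V →ₗ[ZMod p] V) z = z := fun x => hXz x x.2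
    rw [Finset.sum_congr rfl (fun x _ => this x)]
    simp only [Finset.sum_const, Finset.card_univ, Nat.card_eq_fintype_card]
    exact (Nat.cast_smul_eq_nsmul (ZMod p) _ z).symm
  have hcz : c ≠ 0 := by
    rintro rfl
    apply hc
    simp
  have hninv : n⁻¹ z = c⁻¹ • z := by
    have : n⁻¹ (n z) = z := by
      have : (n⁻¹ * n) z = z := by rw [inv_mul_cancel]; rfl
      exact this
    rw [hnz, map_smul] at this
    rw [eq_inv_smul_iff₀ hcz]
    exact this
  -- traces of `S ∘ m`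
  have htr : ∀ (m : V ≃ₗ[ZMod p] V) (d : ZMod p), m z = d • z →
      LinearMap.trace (ZMod p) V (S ∘ₗ (m : V →ₗ[ZMod p] V)) = d * (Nat.card X : ZMod p) := by
    intro m d hm
    apply trace_of_line _ z hz
    · simp only [LinearMap.comp_apply, LinearEquiv.coe_coe, hm, map_smul, hSz, smul_smul]
    · intro v
      exact hcon _ (fun x hx => hSfix _ x hx)
  have htr2 : ∀ (m : V ≃ₗ[ZMod p] V),
      LinearMap.trace (ZMod p) V (S ∘ₗ (m : V →ₗ[ZMod p] V)) =
        ∑ x : X, LinearMap.trace (ZMod p) V (((x : V ≃ₗ[ZMod p] V) * m : V ≃ₗ[ZMod p] V) :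
          V →ₗ[ZMod p] V) := by
    intro m
    have h1 : S ∘ₗ (m : V →ₗ[ZMod p] V) = ∑ x : X, (((x : V ≃ₗ[ZMod p] V) * m :
        V ≃ₗ[ZMod p] V) : V →ₗ[ZMod p] V) := by
      apply LinearMap.ext
      intro v
      simp only [S, LinearMap.comp_apply, LinearMap.sum_apply]
      rfl
    rw [h1, map_sum]
  have hinv : ∀ g ∈ H, LinearMap.trace (ZMod p) V (g : V →ₗ[ZMod p] V) =
      LinearMap.trace (ZMod p) V ((g⁻¹ : V ≃ₗ[ZMod p] V) : V →ₗ[ZMod p] V) := by
    intro g hg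
    obtain ⟨t, -, ht⟩ := hreal g hg
    rw [← ht]
    exact (LinearMap.trace_conj' (g : V →ₗ[ZMod p] V) t).symm
  have hcyc : ∀ g k : V ≃ₗ[ZMod p] V,
      LinearMap.trace (ZMod p) V ((g * k : V ≃ₗ[ZMod p] V) : V →ₗ[ZMod p] V) =
        LinearMap.trace (ZMod p) V ((k * g : V ≃ₗ[ZMod p] V) : V →ₗ[ZMod p] V) := by
    intro g k
    exact LinearMap.trace_mul_comm (ZMod p) (g : V →ₗ[ZMod p] V) (k : V →ₗ[ZMod p] V)
  have hkey : ∑ x : X, LinearMap.trace (ZMod p) V (((x : V ≃ₗ[ZMod p] V) * n : V ≃ₗ[ZMod p] V) :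
          V →ₗ[ZMod p] V) = ∑ x : X, LinearMap.trace (ZMod p) V
            (((x : V ≃ₗ[ZMod p] V) * n⁻¹ : V ≃ₗ[ZMod p] V) : V →ₗ[ZMod p] V) := by
    refine Fintype.sum_equiv (Equiv.inv X) _ _ (fun x => ?_)
    rw [hinv _ (H.mul_mem (hXH x.2) hn), mul_inv_rev, hcyc]
    rfl
  rw [← htr2, ← htr2, htr n c hnz, htr n⁻¹ c⁻¹ hninv] at hkey
  have hX0 : (Nat.card X : ZMod p) ≠ 0 := by
    rw [Ne, ZMod.natCast_eq_zero_iff]
    exact hp
  exact hc (mul_right_cancel₀ hX0 hkey)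

/-- Lemma LG for a group acting on an additive group of exponent `p`. -/
theorem lg_add {p : ℕ} [Fact p.Prime] {N V : Type*} [Group N] [AddCommGroup V] [Finite V]
    (φ : N → V ≃+ V) (hmul : ∀ m n v, φ (m * n) v = φ m (φ n v)) (hV : ∀ v : V, p • v = 0)
    (hreal : ∀ g : N, ∃ t : N, t * g * t⁻¹ = g⁻¹)
    (X : Subgroup N) (C : Subgroup N) (hC : ∀ c ∈ C, ∀ v, φ c v = v) (hp : ¬ p ∣ C.relIndex X)
    (z : V) (hz : z ≠ 0)
    (hXz : ∀ x ∈ X, φ x z = z) (n : N) (k : ℕ) (hk : (k : ZMod p) ≠ (k : ZMod p)⁻¹)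
    (hnz : φ n z = k • z) :
    ∃ u : V, (∀ x ∈ X, φ x u = u) ∧ u ∉ AddSubgroup.zmultiples z := by
  classical
  letI : Module (ZMod p) V := AddCommGroup.zmodModule (n := p) hV
  have hone : ∀ v, φ 1 v = v := by
    intro v
    apply (φ 1).injective
    rw [← hmul, one_mul]
  let ψ : N →* (V ≃ₗ[ZMod p] V) :=
    { toFun := fun m => (φ m).toLinearEquiv (fun c x => ZMod.map_smul _ c x)
      map_one' := by
        apply LinearEquiv.ext
        intro x
        exact hone x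
      map_mul' := fun m m' => by
        apply LinearEquiv.ext
        intro x
        exact hmul m m' x }
  have hψ : ∀ (m : N) (v : V), ψ m v = φ m v := fun _ _ => rfl
  have hcard : Nat.card (X.map ψ) ∣ C.relIndex X := by
    have h1 : Nat.card (X.map ψ) = ((ψ.comp X.subtype).ker).index := by
      rw [Subgroup.index_ker]
      congr 1
      have : (ψ.comp X.subtype).range = X.map ψ := by
        rw [MonoidHom.range_comp, Subgroup.range_subtype]
      rw [this]
    rw [h1]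
    apply Subgroup.index_dvd_of_le
    intro x hx
    rw [MonoidHom.mem_ker]
    apply LinearEquiv.ext
    intro v
    exact hC _ hx v
  obtain ⟨u, hu1, hu2⟩ := lg ψ.range (X.map ψ) (fun h => hp (h.trans hcard))
    (by
      rintro _ ⟨g, rfl⟩
      obtain ⟨t, ht⟩ := hreal g
      exact ⟨ψ t, ⟨t, rfl⟩, by rw [← map_inv, ← map_mul, ← map_mul, ht, map_inv]⟩)
    (by rw [MonoidHom.range_eq_map]; exact Subgroup.map_mono le_top)
    z hz
    (by
      rintro _ ⟨x, hx, rfl⟩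
      rw [hψ, hXz x hx])
    (ψ n) ⟨n, rfl⟩ (k : ZMod p) hk
    (by rw [hψ, hnz, Nat.cast_smul_eq_nsmul])
  refine ⟨u, fun x hx => hu1 (ψ x) ⟨x, hx, rfl⟩, fun hu => hu2 ?_⟩
  obtain ⟨j, hj⟩ := AddSubgroup.mem_zmultiples_iff.mp hu
  rw [Submodule.mem_span_singleton]
  refine ⟨(j : ZMod p), ?_⟩
  rw [Int.cast_smul_eq_zsmul]
  exact hj

/-- Lemma LG for subgroups of a group: `N` acts by conjugation on the elementary abelian
subgroup `A`; `X ≤ N` centralizes `z`, and `p` does not divide `|X : C|`, where `C ≤ X`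
centralizes `A`. -/
theorem lg_group {p : ℕ} [Fact p.Prime] {G : Type*} [Group G] (N A X : Subgroup G) [Finite A]
    (hNA : ∀ n ∈ N, ∀ a ∈ A, n * a * n⁻¹ ∈ A)
    (hA : ∀ a ∈ A, ∀ b ∈ A, a * b = b * a) (hAp : ∀ a ∈ A, a ^ p = 1)
    (hreal : ∀ g ∈ N, ∃ t ∈ N, t * g * t⁻¹ = g⁻¹)
    (hXN : X ≤ N) (z : G) (hzA : z ∈ A) (hz : z ≠ 1) (hXz : ∀ x ∈ X, x * z * x⁻¹ = z)
    (C : Subgroup G) (hCA : ∀ c ∈ C, ∀ a ∈ A, c * a * c⁻¹ = a)
    (hp : ¬ p ∣ C.relIndex X)
    (n : G) (hn : n ∈ N) (k : ℕ) (hk : (k : ZMod p) ≠ (k : ZMod p)⁻¹)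
    (hnz : n * z * n⁻¹ = z ^ k) :
    ∃ u ∈ A, (∀ x ∈ X, x * u * x⁻¹ = u) ∧ u ∉ Subgroup.zpowers z := by
  classical
  letI : CommGroup A :=
    { (inferInstance : Group A) with
      mul_comm := fun a b => Subtype.ext (hA a a.2 b b.2) }
  let φ : N →* MulAut A :=
    { toFun := fun m =>
        { toFun := fun a => ⟨m * a * m⁻¹, hNA m m.2 a a.2⟩
          invFun := fun a => ⟨(m : G)⁻¹ * a * m, by
            have := hNA (m : G)⁻¹ (N.inv_mem m.2) a a.2
            rwa [inv_inv] at this⟩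
          left_inv := fun a => Subtype.ext (by simp [mul_assoc])
          right_inv := fun a => Subtype.ext (by simp [mul_assoc])
          map_mul' := fun a b => Subtype.ext (by simp [mul_assoc]) }
      map_one' := by
        apply MulEquiv.ext
        intro a
        exact Subtype.ext (by simp)
      map_mul' := fun m m' => by
        apply MulEquiv.ext
        intro a
        exact Subtype.ext (by simp [mul_assoc]) }
  have hφ : ∀ (m : N) (a : A), ((φ m a : A) : G) = m * a * (m : G)⁻¹ := fun _ _ => rfl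
  obtain ⟨u, hu1, hu2⟩ := lg_add (V := Additive A)
    (fun m => MulEquiv.toAdditive (φ m))
    (fun m n v => by rw [map_mul]; rfl) (fun a => Subtype.ext (hAp a.toMul a.toMul.2))
    (fun g => by
      obtain ⟨t, ht, htg⟩ := hreal g g.2
      exact ⟨⟨t, ht⟩, Subtype.ext htg⟩)
    (X.subgroupOf N) (C.subgroupOf N) (fun c hc v => Subtype.ext (hCA c hc v.toMul v.toMul.2))
    (by
      rw [Subgroup.relIndex_subgroupOf hXN]
      exact hp)
    (Additive.ofMul ⟨z, hzA⟩)
    (fun h => hz (congrArg (fun a : Additive A => (a.toMul : G)) h))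
    (fun x hx => Subtype.ext (hXz x hx)) ⟨n, hn⟩ k hk (Subtype.ext hnz)
  refine ⟨u.toMul, u.toMul.2, fun x hx => ?_, fun hu => hu2 ?_⟩
  · exact congrArg (fun a : Additive A => (a.toMul : G)) (hu1 ⟨x, hXN hx⟩ hx)
  · obtain ⟨j, hj⟩ := hu
    exact ⟨j, Subtype.ext hj⟩

end Cfsg.Agent.H174.RatSyl
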