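import Cfsg.Agent.LieClassical.SLGen

/-!
Subgroups `G` of `SL ι F` containing transvections: `HasT G z ψ` says `1 + z ⊗ ψ ∈ G`.
The vectors `z` such that all transvections with centre `z` lie in `G` form a `G`-invariant
subspace `centers G`; if this is everything, `G = ⊤`.
-/

set_option autoImplicit false

namespace Cfsg.Agent.H174.TvCenter

open Matrix

variable {ι F : Type*} [Field F] [DecidableEq ι] [Fintype ι]

/-- `1 + z ⊗ ψ` lies in `G`. -/
def HasT (G : Subgroup (SpecialLinearGroup ι F)) (z ψ : ι → F) : Prop :=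
  ∃ g ∈ G, (g : Matrix ι ι F) = 1 + vecMulVec z ψ

variable {G : Subgroup (SpecialLinearGroup ι F)}

theorem HasT.zero_left (ψ : ι → F) : HasT G 0 ψ := ⟨1, one_mem _, by simp⟩

theorem HasT.zero_right (z : ι → F) : HasT G z 0 := ⟨1, one_mem _, by simp⟩

theorem HasT.smul_swap {z ψ : ι → F} {c : F} : HasT G (c • z) ψ ↔ HasT G z (c • ψ) := by
  unfold HasT
  rw [smul_vecMulVec, vecMulVec_smul]

theorem HasT.add_right {z ψ φ : ι → F} (h1 : HasT G z ψ) (h2 : HasT G z φ) (h : ψ ⬝ᵥ z = 0) :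
    HasT G z (ψ + φ) := by
  obtain ⟨g, hg, hg'⟩ := h1
  obtain ⟨k, hk, hk'⟩ := h2
  refine ⟨g * k, mul_mem hg hk, ?_⟩
  rw [Matrix.SpecialLinearGroup.coe_mul, hg', hk', add_mul, mul_add, mul_add, mul_one, one_mul,
    vecMulVec_mul_vecMulVec, h, zero_smul, vecMulVec_add, vecMulVec_zero, mul_one, add_zero]
  abel

theorem HasT.add_left {z w ψ : ι → F} (h1 : HasT G z ψ) (h2 : HasT G w ψ) (h : ψ ⬝ᵥ w = 0) :
    HasT G (z + w) ψ := by
  obtain ⟨g, hg, hg'⟩ := h1
  obtain ⟨k, hk, hk'⟩ := h2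
  refine ⟨g * k, mul_mem hg hk, ?_⟩
  rw [Matrix.SpecialLinearGroup.coe_mul, hg', hk', add_mul, mul_add, mul_add, mul_one, one_mul,
    vecMulVec_mul_vecMulVec, h, zero_smul, add_vecMulVec, vecMulVec_zero, mul_one, add_zero]
  abel

theorem mul_coe_inv (g : Matrix.SpecialLinearGroup ι F) :
    (g : Matrix ι ι F) * ((g⁻¹ : SpecialLinearGroup ι F) : Matrix ι ι F) = 1 := by
  have h := congrArg (fun x : SpecialLinearGroup ι F => (x : Matrix ι ι F)) (mul_inv_cancel g)
  simpa only [Matrix.SpecialLinearGroup.coe_mul, Matrix.SpecialLinearGroup.coe_one] using h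

theorem HasT.conj {z ψ : ι → F} {g : SpecialLinearGroup ι F} (hg : g ∈ G) (h : HasT G z ψ) :
    HasT G ((g : Matrix ι ι F) *ᵥ z) (ψ ᵥ* ((g⁻¹ : SpecialLinearGroup ι F) : Matrix ι ι F)) := by
  obtain ⟨k, hk, hk'⟩ := h
  refine ⟨g * k * g⁻¹, mul_mem (mul_mem hg hk) (inv_mem hg), ?_⟩
  rw [Matrix.SpecialLinearGroup.coe_mul, Matrix.SpecialLinearGroup.coe_mul, hk', mul_add, add_mul,
    mul_one, mul_vecMulVec, vecMulVec_mul, mul_coe_inv]

/-- All transvections with centre `z` lie in `G`. -/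
def Full (G : Subgroup (SpecialLinearGroup ι F)) (z : ι → F) : Prop :=
  ∀ ψ : ι → F, ψ ⬝ᵥ z = 0 → HasT G z ψ

theorem Full.zero : Full G 0 := fun ψ _ => HasT.zero_left ψ

theorem Full.smul {z : ι → F} (h : Full G z) (c : F) : Full G (c • z) := by
  intro ψ hψ
  rw [HasT.smul_swap]
  apply h
  rwa [smul_dotProduct, ← dotProduct_smul]

theorem Full.map {z : ι → F} (h : Full G z) {g : SpecialLinearGroup ι F} (hg : g ∈ G) :
    Full G ((g : Matrix ι ι F) *ᵥ z) := by
  intro ψ hψ
  have h1 : (ψ ᵥ* (g : Matrix ι ι F)) ⬝ᵥ z = 0 := by rw [← dotProduct_mulVec]; exact hψ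
  have h2 := (h _ h1).conj hg
  rwa [vecMul_vecMul, mul_coe_inv, vecMul_one] at h2

theorem exists_separate {z w : ι → F} (h : ∀ c : F, z ≠ c • w) :
    ∃ ψ : ι → F, ψ ⬝ᵥ w = 0 ∧ ψ ⬝ᵥ z = 1 := by
  have hz : z ∉ Submodule.span F {w} := by
    intro hz
    obtain ⟨c, hc⟩ := Submodule.mem_span_singleton.1 hz
    exact h c hc.symm
  obtain ⟨f, hf, hf'⟩ := Submodule.exists_le_ker_of_notMem hz
  refine ⟨fun i => (f z)⁻¹ * f (Pi.single i 1), ?_, ?_⟩
  · have h1 : f w = 0 := by
      have := hf' (Submodule.mem_span_singleton_self w)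
      simpa using this
    have h2 : f w = ∑ i, f (Pi.single i 1) * w i := by
      conv_lhs => rw [pi_eq_sum_univ' w]
      rw [map_sum]
      refine Finset.sum_congr rfl fun i _ => ?_
      rw [map_smul, smul_eq_mul, mul_comm]
    simp only [dotProduct, mul_assoc]
    rw [← Finset.mul_sum, ← h2, h1, mul_zero]
  · have h2 : f z = ∑ i, f (Pi.single i 1) * z i := by
      conv_lhs => rw [pi_eq_sum_univ' z]
      rw [map_sum]
      refine Finset.sum_congr rfl fun i _ => ?_
      rw [map_smul, smul_eq_mul, mul_comm]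
    simp only [dotProduct, mul_assoc]
    rw [← Finset.mul_sum, ← h2, inv_mul_cancel₀ hf]

theorem Full.add {z w : ι → F} (h1 : Full G z) (h2 : Full G w) : Full G (z + w) := by
  by_cases h : ∃ c : F, z = c • w
  · obtain ⟨c, rfl⟩ := h
    have : c • w + w = (c + 1) • w := by rw [add_smul, one_smul]
    rw [this]
    exact h2.smul _
  · push Not at h
    obtain ⟨ψ, hψ, hψ'⟩ := exists_separate h
    obtain ⟨g, hg, hg'⟩ := h2 ψ hψ
    have h3 := h1.map hg
    rw [hg', add_mulVec, one_mulVec, vecMulVec_mulVec, hψ'] at h3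
    simpa using h3

/-- The subspace of all centres. -/
def centers (G : Subgroup (SpecialLinearGroup ι F)) : Submodule F (ι → F) where
  carrier := {z | Full G z}
  zero_mem' := Full.zero
  add_mem' := Full.add
  smul_mem' := fun c _ h => h.smul c

theorem mem_centers {z : ι → F} : z ∈ centers G ↔ Full G z := Iff.rfl

theorem eq_top_of_centers [Nontrivial ι] (h : centers G = ⊤) : G = ⊤ := by
  rw [eq_top_iff]
  intro A _
  refine LieClassical.SLGen.transvection_induction (fun A => A ∈ G) ?_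
    (fun A B hA hB => mul_mem hA hB) A
  intro i j hij c
  have h1 : Full G (Pi.single i (1 : F)) := by
    rw [← mem_centers, h]; trivial
  obtain ⟨g, hg, hg'⟩ := h1 (Pi.single j c) (by simp [hij])
  have : SpecialLinearGroup.transvection hij c = g := by
    apply Subtype.ext
    rw [hg']
    change (1 : Matrix ι ι F) + Matrix.single i j c = _
    congr 1
    ext a b
    simp only [Matrix.single_apply, vecMulVec_apply, Pi.single_apply]
    by_cases ha : i = a <;> by_cases hb : j = b <;> simp [ha, hb, eq_comm]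
  rw [this]
  exact hg

/-- Criterion: a full centre `z` which together with its images under `g ∈ G` spans. -/
theorem eq_top_of_span [Nontrivial ι] {z : ι → F} (hz : Full G z)
    (hs : ⊤ ≤ Submodule.span F {w | ∃ g ∈ G, w = (g : Matrix ι ι F) *ᵥ z}) : G = ⊤ := by
  apply eq_top_of_centers
  rw [eq_top_iff]
  refine hs.trans (Submodule.span_le.2 ?_)
  rintro w ⟨g, hg, rfl⟩
  exact hz.map hg

end Cfsg.Agent.H174.TvCenter
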