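import Mathlib
import Cfsg.Agent.H174.JordanExists
import Cfsg.Agent.H174.JordanMatrix

/-!
Unipotent classes of `GL_n(F)` are in bijection with the partitions of `n`.
-/

set_option autoImplicit false

namespace Cfsg.Agent.H174

open Module

variable {F : Type*} [Field F] {n : ℕ}

/-- the nilpotent part `g - 1` of a matrix, as a linear map -/
noncomputable def nilOf (g : GL (Fin n) F) : (Fin n → F) →ₗ[F] (Fin n → F) :=
  Matrix.toLin' ((g : Matrix (Fin n) (Fin n) F) - 1)

theorem isNilpotent_nilOf {g : GL (Fin n) F} :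
    IsNilpotent (nilOf g) ↔ IsNilpotent ((g : Matrix (Fin n) (Fin n) F) - 1) := by
  constructor
  · rintro ⟨m, hm⟩
    refine ⟨m, ?_⟩
    rw [nilOf, ← Matrix.toLin'_pow] at hm
    exact (LinearEquiv.map_eq_zero_iff Matrix.toLin').1 hm
  · rintro ⟨m, hm⟩
    refine ⟨m, ?_⟩
    rw [nilOf, ← Matrix.toLin'_pow, hm, map_zero]

theorem exists_partition {g : GL (Fin n) F} (hg : IsNilpotent ((g : Matrix (Fin n) (Fin n) F) - 1)) :
    ∃ μ : n.Partition, IsJT (nilOf g) μ.parts := by
  obtain ⟨s, hs, h⟩ := exists_isJT (isNilpotent_nilOf.2 hg)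
  have hn := h.finrank_eq
  rw [Module.finrank_fin_fun] at hn
  exact ⟨⟨s, fun {i} hi => hs i hi, hn.symm⟩, h⟩

theorem isConj_of_isJT {g h : GL (Fin n) F} {s : Multiset ℕ} (hg : IsJT (nilOf g) s)
    (hh : IsJT (nilOf h) s) : IsConj g h := by
  obtain ⟨e, he⟩ := hg.exists_equiv hh
  let c : GL (Fin n) F := ⟨LinearMap.toMatrix' e.toLinearMap, LinearMap.toMatrix' e.symm.toLinearMap,
    by rw [← LinearMap.toMatrix'_comp]; simp, by rw [← LinearMap.toMatrix'_comp]; simp⟩
  rw [isConj_iff]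
  refine ⟨c, ?_⟩
  rw [mul_inv_eq_iff_eq_mul]
  apply Units.ext
  change LinearMap.toMatrix' e.toLinearMap * (g : Matrix (Fin n) (Fin n) F) =
    (h : Matrix (Fin n) (Fin n) F) * LinearMap.toMatrix' e.toLinearMap
  have h1 : e.toLinearMap.comp (nilOf g) = (nilOf h).comp e.toLinearMap := LinearMap.ext he
  have h2 := congrArg LinearMap.toMatrix' h1
  rw [LinearMap.toMatrix'_comp, LinearMap.toMatrix'_comp, nilOf, nilOf, LinearMap.toMatrix'_toLin',
    LinearMap.toMatrix'_toLin', Matrix.mul_sub, Matrix.sub_mul, Matrix.mul_one, Matrix.one_mul] at h2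
  exact sub_left_injective h2

theorem isJT_of_isConj {g h : GL (Fin n) F} {s : Multiset ℕ} (hg : IsJT (nilOf g) s)
    (hc : IsConj g h) : IsJT (nilOf h) s := by
  obtain ⟨c, rfl⟩ := isConj_iff.1 hc
  refine hg.conj (Matrix.toLin'OfInv (M := ((c⁻¹ : GL (Fin n) F) : Matrix (Fin n) (Fin n) F))
    (M' := (c : Matrix (Fin n) (Fin n) F)) (by simp) (by simp)) ?_
  intro v
  change Matrix.mulVec (c : Matrix (Fin n) (Fin n) F) (Matrix.mulVec
    ((g : Matrix (Fin n) (Fin n) F) - 1) v) = Matrix.mulVec _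
      (Matrix.mulVec (c : Matrix (Fin n) (Fin n) F) v)
  rw [Matrix.mulVec_mulVec, Matrix.mulVec_mulVec]
  congr 1
  rw [Matrix.mul_sub, Matrix.sub_mul, Units.val_mul, Units.val_mul, mul_assoc, mul_assoc,
    Units.inv_mul, Matrix.mul_one, Matrix.one_mul, Matrix.mul_one]

theorem partition_unique {g : GL (Fin n) F} {μ ν : n.Partition} (hμ : IsJT (nilOf g) μ.parts)
    (hν : IsJT (nilOf g) ν.parts) : μ = ν := by
  ext1
  exact hμ.unique hν (fun j hj => μ.parts_pos hj) (fun j hj => ν.parts_pos hj)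

theorem exists_gl (F : Type*) [Field F] (μ : n.Partition) : ∃ g : GL (Fin n) F, IsJT (nilOf g) μ.parts := by
  obtain ⟨N, hN⟩ := exists_nilpotent F μ.parts μ.parts_sum
  have hnil : IsNilpotent N := by
    refine ⟨n, (hN.pow_eq_zero_iff n).2 fun j hj => ?_⟩
    rw [← μ.parts_sum]
    exact Multiset.single_le_sum (fun _ _ => Nat.zero_le _) j hj
  have hnil' : IsNilpotent (LinearMap.toMatrix' N) := by
    exact hnil.map (LinearMap.toMatrixAlgEquiv' (R := F) (n := Fin n))
  have hu : IsUnit (LinearMap.toMatrix' N + 1) := hnil'.isUnit_add_one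
  refine ⟨hu.unit, ?_⟩
  have : nilOf hu.unit = N := by
    rw [nilOf, IsUnit.unit_spec, add_sub_cancel_right, Matrix.toLin'_toMatrix']
  rw [this]
  exact hN

/-- a unipotent matrix with the given partition -/
noncomputable def unip (F : Type*) [Field F] (μ : n.Partition) : GL (Fin n) F := (exists_gl F μ).choose

theorem unip_spec (F : Type*) [Field F] (μ : n.Partition) : IsJT (nilOf (unip F μ)) μ.parts :=
  (exists_gl F μ).choose_spec

theorem unip_isNilpotent (F : Type*) [Field F] (μ : n.Partition) :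
    IsNilpotent ((unip F μ : Matrix (Fin n) (Fin n) F) - 1) := by
  rw [← isNilpotent_nilOf]
  refine ⟨n, ((unip_spec F μ).pow_eq_zero_iff n).2 fun j hj => ?_⟩
  rw [← μ.parts_sum]
  exact Multiset.single_le_sum (fun _ _ => Nat.zero_le _) j hj

theorem isConj_unip_iff {μ ν : n.Partition} : IsConj (unip F μ) (unip F ν) ↔ μ = ν := by
  constructor
  · intro h
    exact partition_unique (isJT_of_isConj (unip_spec F μ) h) (unip_spec F ν)
  · rintro rfl
    exact IsConj.refl _

/-- the unipotent classes with a class property `P` expressed on partitions -/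
theorem card_unip_classes (P : GL (Fin n) F → Prop) (hP : ∀ g, P g → IsNilpotent ((g : Matrix (Fin n) (Fin n) F) - 1))
    (hPc : ∀ g h, IsConj g h → P g → P h) :
    Nat.card {C : ConjClasses (GL (Fin n) F) // ∃ g : GL (Fin n) F, ConjClasses.mk g = C ∧ P g} =
      Nat.card {μ : n.Partition // P (unip F μ)} := by
  refine (Nat.card_eq_of_bijective (fun μ : {μ : n.Partition // P (unip F μ)} =>
    (⟨ConjClasses.mk (unip F μ.1), unip F μ.1, rfl, μ.2⟩ :
      {C : ConjClasses (GL (Fin n) F) // ∃ g : GL (Fin n) F, ConjClasses.mk g = C ∧ P g})) ⟨?_, ?_⟩).symm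
  · rintro ⟨μ, hμ⟩ ⟨ν, hν⟩ h
    have h1 := congrArg Subtype.val h
    simp only at h1
    rw [ConjClasses.mk_eq_mk_iff_isConj, isConj_unip_iff] at h1
    exact Subtype.ext h1
  · rintro ⟨C, g, rfl, hg⟩
    obtain ⟨μ, hμ⟩ := exists_partition (hP g hg)
    have hc : IsConj g (unip F μ) := isConj_of_isJT hμ (unip_spec F μ)
    refine ⟨⟨μ, hPc _ _ hc hg⟩, Subtype.ext ?_⟩
    exact (ConjClasses.mk_eq_mk_iff_isConj.2 hc).symm

/-! ### characteristic `p` -/

theorem sub_one_pow_char {p : ℕ} [Fact p.Prime] [CharP F p] (k : ℕ) (A : Matrix (Fin n) (Fin n) F) :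
    (A - 1) ^ p ^ k = A ^ p ^ k - 1 := by
  rcases Nat.eq_zero_or_pos n with rfl | hn
  · exact Subsingleton.elim _ _
  · have : Nonempty (Fin n) := ⟨⟨0, hn⟩⟩
    have h := sub_pow_char_pow_of_commute (R := Matrix (Fin n) (Fin n) F) (p := p) (n := k) (x := A) (y := 1)
      (Commute.one_right A)
    rwa [one_pow] at h

/-- `g ^ p = 1` iff all parts are at most `p` -/
theorem unip_pow_eq_one_iff {p : ℕ} [Fact p.Prime] [CharP F p] (μ : n.Partition) (k : ℕ) :
    unip F μ ^ p ^ k = 1 ↔ ∀ a ∈ μ.parts, a ≤ p ^ k := by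
  rw [← (unip_spec F μ).pow_eq_zero_iff, nilOf, ← Matrix.toLin'_pow,
    LinearEquiv.map_eq_zero_iff, sub_one_pow_char, sub_eq_zero, Units.ext_iff]
  simp

theorem isNilpotent_of_pow {p : ℕ} [Fact p.Prime] [CharP F p] {g : GL (Fin n) F} {k : ℕ}
    (h : g ^ p ^ k = 1) : IsNilpotent ((g : Matrix (Fin n) (Fin n) F) - 1) := by
  refine ⟨p ^ k, ?_⟩
  rw [sub_one_pow_char, sub_eq_zero]
  have := congrArg (fun x : GL (Fin n) F => (x : Matrix (Fin n) (Fin n) F)) h
  simpa using this

theorem unip_eq_one_iff (μ : n.Partition) : unip F μ = 1 ↔ ∀ a ∈ μ.parts, a ≤ 1 := by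
  rw [← (unip_spec F μ).pow_eq_zero_iff, pow_one, nilOf, LinearEquiv.map_eq_zero_iff, sub_eq_zero,
    Units.ext_iff]
  simp

/-- the partition `1 + 1 + ... + 1` -/
def ones (n : ℕ) : n.Partition := ⟨Multiset.replicate n 1, fun {i} hi => by
  rw [Multiset.eq_of_mem_replicate hi]; exact Nat.one_pos, by simp⟩

theorem eq_ones_iff (μ : n.Partition) : μ = ones n ↔ ∀ a ∈ μ.parts, a ≤ 1 := by
  constructor
  · rintro rfl a ha
    exact (Multiset.eq_of_mem_replicate ha).le
  · intro h
    have h1 : μ.parts = Multiset.replicate (Multiset.card μ.parts) 1 := by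
      rw [Multiset.eq_replicate]
      exact ⟨rfl, fun a ha => le_antisymm (h a ha) (μ.parts_pos ha)⟩
    have h2 : Multiset.card μ.parts = n := by
      have := μ.parts_sum
      rw [h1] at this
      simpa using this
    ext1
    rw [h1, h2]
    rfl

theorem card_le_sub_one (n p : ℕ) (hp : 1 ≤ p) :
    Nat.card {μ : n.Partition // (∀ a ∈ μ.parts, a ≤ p) ∧ ¬ ∀ a ∈ μ.parts, a ≤ 1} =
      (Finset.univ.filter (fun μ : Nat.Partition n => ∀ a ∈ μ.parts, a ≤ p)).card - 1 := by
  classical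
  rw [Nat.card_eq_fintype_card, Fintype.card_subtype]
  have : (Finset.univ.filter (fun μ : Nat.Partition n => (∀ a ∈ μ.parts, a ≤ p) ∧
      ¬ ∀ a ∈ μ.parts, a ≤ 1)) =
      (Finset.univ.filter (fun μ : Nat.Partition n => ∀ a ∈ μ.parts, a ≤ p)).erase (ones n) := by
    ext μ
    simp only [Finset.mem_filter, Finset.mem_univ, true_and, Finset.mem_erase, ne_eq, eq_ones_iff]
    tauto
  rw [this, Finset.card_erase_of_mem]
  rw [Finset.mem_filter]
  refine ⟨Finset.mem_univ _, fun a ha => le_trans ((eq_ones_iff (ones n)).1 rfl a ha) hp⟩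

end Cfsg.Agent.H174
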